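import Groth.Agent.Lib.GrassRep.AffinePoints
import Mathlib.AlgebraicGeometry.AffineSpace
import Mathlib.AlgebraicGeometry.Morphisms.Smooth
import Mathlib.RingTheory.Smooth.StandardSmooth

/-!
# The Grassmannian of `R^n`

The coordinate charts `chart {e ∘ σ}` cover and are affine spaces.
-/

universe u

open CategoryTheory Limits AlgebraicGeometry TensorProduct Module

namespace Groth.Agent.Lib.GrassRep

set_option linter.style.haveILetI false

/-- Polynomial algebras are standard smooth. -/
theorem isStandardSmoothOfRelativeDimension_mvPolynomial (R : Type u) [CommRing R] (ι : Type u)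
    [Finite ι] {d : ℕ} (hd : Nat.card ι = d) :
    Algebra.IsStandardSmoothOfRelativeDimension d R (MvPolynomial ι R) := by
  let G : Algebra.Generators R (MvPolynomial ι R) ι :=
    Algebra.Generators.ofSurjective MvPolynomial.X fun p => ⟨p, MvPolynomial.aeval_X_left_apply p⟩
  let P : Algebra.Presentation R (MvPolynomial ι R) ι PEmpty.{u + 1} :=
    { toGenerators := G
      relation := PEmpty.elim
      span_range_relation_eq_ker := by
        simp only [Set.range_eq_empty, Ideal.span_empty]
        symm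
        rw [G.ker_eq_ker_aeval_val, ← RingHom.injective_iff_ker_eq_bot]
        change Function.Injective (MvPolynomial.aeval (R := R) (MvPolynomial.X : ι → MvPolynomial ι R))
        intro a b h
        rwa [MvPolynomial.aeval_X_left_apply, MvPolynomial.aeval_X_left_apply] at h }
  let Q : Algebra.PreSubmersivePresentation R (MvPolynomial ι R) ι PEmpty.{u + 1} :=
    { P with map := PEmpty.elim, map_inj := fun a => a.elim }
  have hj : IsUnit Q.jacobian := by
    classical
    rw [Q.jacobian_eq_jacobiMatrix_det, Matrix.det_isEmpty, map_one]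
    exact isUnit_one
  exact (⟨Q, hj⟩ : Algebra.SubmersivePresentation R _ ι PEmpty.{u + 1}).isStandardSmoothOfRelativeDimension
    (by simp [Algebra.Presentation.dimension, hd])

theorem smoothOfRelativeDimension_mvPolynomial (R : Type u) [CommRing R] (ι : Type u) [Finite ι] {d : ℕ}
    (hd : Nat.card ι = d) :
    SmoothOfRelativeDimension d
      (Spec.map (CommRingCat.ofHom (MvPolynomial.C : R →+* MvPolynomial ι R))) := by
  rw [HasRingHomProperty.Spec_iff (P := @SmoothOfRelativeDimension d)]
  refine RingHom.locally_of RingHom.isStandardSmoothOfRelativeDimension_respectsIso _ ?_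
  haveI := isStandardSmoothOfRelativeDimension_mvPolynomial R ι hd
  exact (RingHom.isStandardSmoothOfRelativeDimension_algebraMap _).mpr this

variable {R : Type u} [CommRing R] {n k : ℕ}

/-- The standard tuple of `σ`. -/
noncomputable def stdTuple (R : Type u) [CommRing R] (σ : Fin k → Fin n) : Fin k → (Fin n → R) :=
  fun i => Pi.single (σ i) 1

theorem exists_gen_std {K : Type u} [Field K] [Algebra R K] (N : Gr R (Fin n → R) k K) :
    ∃ σ : Fin k ↪ Fin n, Gen N (stdTuple R σ) := by
  let Q := (K ⊗[R] (Fin n → R)) ⧸ N.toSubmodule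
  let v : Fin n → Q := fun j => cls N (Pi.single j 1)
  have hspan : Submodule.span K (Set.range v) = ⊤ := by
    rw [eq_top_iff]
    rintro q -
    obtain ⟨w, rfl⟩ := Submodule.mkQ_surjective _ q
    induction w using TensorProduct.induction_on with
    | zero => simp
    | add a b ha hb => rw [map_add]; exact add_mem ha hb
    | tmul a m =>
      rw [show a ⊗ₜ[R] m = a • ((1 : K) ⊗ₜ[R] m) by rw [TensorProduct.smul_tmul', smul_eq_mul, mul_one],
        map_smul, ← cls_apply]
      refine Submodule.smul_mem _ _ ?_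
      rw [pi_eq_sum_univ' m, map_sum]
      refine sum_mem fun j _ => ?_
      rw [map_smul, ← algebraMap_smul K]
      exact Submodule.smul_mem _ _ (Submodule.subset_span ⟨j, rfl⟩)
  have hdim : Module.finrank K Q = k := by
    have h := congrFun (Module.rankAtStalk_eq_finrank_of_free (R := K) (M := Q)) (⊥ : PrimeSpectrum K)
    rw [N.rankAtStalk_eq] at h
    simpa using h.symm
  obtain ⟨t, ht, htspan, hli⟩ := exists_linearIndependent K (Set.range v)
  rw [hspan] at htspan
  let b : Basis t K Q := Basis.mk hli (by rw [Subtype.range_coe_subtype]; exact htspan.ge)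
  haveI : Fintype t := FiniteDimensional.fintypeBasisIndex b
  have hcard : Fintype.card t = k := (Module.finrank_eq_card_basis b).symm.trans hdim
  let e : Fin k ≃ t := (Fintype.equivFinOfCardEq hcard).symm
  choose σ hσ using fun i => ht (e i).2
  have hinj : Function.Injective σ := fun i j h => e.injective (Subtype.ext (by rw [← hσ i, ← hσ j, h]))
  refine ⟨⟨σ, hinj⟩, fun q => ⟨fun i => b.repr q (e i), ?_⟩⟩
  rw [gen_apply]
  refine Eq.trans ?_ (b.sum_repr q)
  refine Fintype.sum_equiv e _ _ fun i => ?_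
  rw [Basis.mk_apply]
  exact congrArg (_ • ·) (hσ i)

theorem iSup_chart_std :
    ⨆ σ : Fin k ↪ Fin n,
      (chart (R := R) (Idx.single (stdTuple R σ)) : _ ⟶ carrier R (Fin n → R) k).opensRange = ⊤ := by
  rw [eq_top_iff]
  rintro y -
  obtain ⟨s, z, rfl⟩ := Scheme.IsLocallyDirected.ι_jointly_surjective (diag R (Fin n → R) k) y
  let p : PrimeSpectrum (Sr R s) := z
  let K := p.asIdeal.ResidueField
  let f : Sr R s →ₐ[R] K := IsScalarTower.toAlgHom R _ _
  let P := mapPts f (univ R s)
  obtain ⟨σ, hσ⟩ := exists_gen_std P.1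
  refine TopologicalSpace.Opens.mem_iSup.mpr ⟨σ, ?_⟩
  have h : Sp (clsf (Pts.single hσ)) ≫ chart _ = Sp (clsf P) ≫ chart s := clsf_chart_eq _ _ rfl
  have hf : clsf P = f := hom_ext (map_clsf _)
  rw [hf] at h
  let w : PrimeSpectrum K := ⊥
  refine ⟨Sp (clsf (Pts.single hσ)) w, ?_⟩
  show (Sp (clsf (Pts.single hσ)) ≫ chart _) w = chart s p
  rw [h]
  show chart s (Sp f w) = chart s p
  refine congrArg _ ?_
  refine PrimeSpectrum.ext ?_
  show Ideal.comap (algebraMap (Sr R s) K) ⊥ = p.asIdeal
  exact Ideal.ker_algebraMap_residueField p.asIdeal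

/-- The free coordinates of a standard chart. -/
abbrev Free (σ : Fin k ↪ Fin n) : Type := Fin k × {j : Fin n // j ∉ Set.range σ}

lemma card_free (σ : Fin k ↪ Fin n) : Nat.card (Free σ) = k * (n - k) := by
  classical
  rw [Nat.card_prod, Nat.card_fin, Nat.card_eq_fintype_card, Fintype.card_subtype_compl]
  have h : Fintype.card {x // x ∈ Set.range σ} = k := by
    rw [Fintype.card_congr (Equiv.ofInjective σ σ.injective).symm, Fintype.card_fin]
  rw [h, Fintype.card_fin]

open MvPolynomial in
/-- The coordinate map with free coordinates `c`. -/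
noncomputable def freeMap (σ : Fin k ↪ Fin n) {A : Type u} [CommRing A] [Algebra R A] (c : Free σ → A) :
    Phi R (stdTuple R σ) A :=
  ⟨(Pi.basisFun R (Fin n)).constr R fun j i =>
    if h : j ∈ Set.range σ then (Pi.single (Classical.choose h) 1 : Fin k → A) i else c (i, ⟨j, h⟩),
    fun l => by
      have h : σ l ∈ Set.range σ := ⟨l, rfl⟩
      rw [stdTuple, ← Pi.basisFun_apply R, Basis.constr_basis]
      funext i
      rw [dif_pos h, σ.injective (Classical.choose_spec h)]⟩

lemma freeMap_apply (σ : Fin k ↪ Fin n) {A : Type u} [CommRing A] [Algebra R A] (c : Free σ → A)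
    (i : Fin k) (j : {j : Fin n // j ∉ Set.range σ}) :
    (freeMap (R := R) σ c).1 (Pi.single j.1 1) i = c (i, j) := by
  rw [freeMap, ← Pi.basisFun_apply R, Basis.constr_basis, dif_neg j.2]

lemma Phi.ext_free (σ : Fin k ↪ Fin n) {A : Type u} [CommRing A] [Algebra R A]
    {φ ψ : Phi R (stdTuple R σ) A}
    (h : ∀ (i : Fin k) (j : {j : Fin n // j ∉ Set.range σ}),
      φ.1 (Pi.single j.1 1) i = ψ.1 (Pi.single j.1 1) i) : φ = ψ := by
  refine Subtype.ext ((Pi.basisFun R (Fin n)).ext fun j => ?_)
  rw [Pi.basisFun_apply]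
  by_cases hj : j ∈ Set.range σ
  · obtain ⟨l, rfl⟩ := hj
    exact (φ.2 l).trans (ψ.2 l).symm
  · exact funext fun i => h i ⟨j, hj⟩

/-- A standard chart ring is a polynomial ring. -/
noncomputable def chartRingEquiv (σ : Fin k ↪ Fin n) :
    MvPolynomial (Free σ) R ≃ₐ[R] Sr R (Idx.single (stdTuple R σ)) := by
  let s := Idx.single (stdTuple R σ)
  have hmem : stdTuple R σ ∈ s.val := Finset.mem_singleton_self _
  let f : MvPolynomial (Free σ) R →ₐ[R] Sr R s := MvPolynomial.aeval fun p =>
    phi (univ R s).1 (stdTuple R σ) ((univ R s).2 _ hmem) (Pi.single p.2.1 1) p.1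
  let φ₀ : Phi R (stdTuple R σ) (MvPolynomial (Free σ) R) := freeMap σ MvPolynomial.X
  let P : Pts R s (MvPolynomial (Free σ) R) := Pts.single (gen_ofPhi φ₀)
  refine AlgEquiv.ofAlgHom f (clsf P) ?_ ?_
  · refine hom_ext ?_
    rw [Grassmannian.map_comp, map_clsf,
      show Grassmannian.map (AlgHom.id R (Sr R s)) (univ R s).1 = (univ R s).1 from
        Grassmannian.map_id k (CommAlgCat.of R (Sr R s)) _]
    refine Gen.ext ((gen_ofPhi φ₀).map f) ((univ R s).2 _ hmem) ?_
    exact congrArg Subtype.val (Phi.ext_free σ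
      (φ := toPhi _ _ ((gen_ofPhi φ₀).map f)) (ψ := toPhi _ _ ((univ R s).2 _ hmem)) fun i j => by
      show phi (Grassmannian.map f (ofPhi φ₀)) _ ((gen_ofPhi φ₀).map f) (Pi.single j.1 1) i = _
      rw [phi_map (gen_ofPhi φ₀), phi_ofPhi, freeMap_apply, MvPolynomial.aeval_X]
      rfl)
  · refine MvPolynomial.algHom_ext fun p => ?_
    rw [AlgHom.comp_apply, MvPolynomial.aeval_X, AlgHom.id_apply, ← phi_map]
    rw [phi_congr (map_clsf P) _ (gen_ofPhi φ₀)]
    exact (congrFun (LinearMap.congr_fun (phi_ofPhi φ₀ (gen_ofPhi φ₀)) _) _).trans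
      (freeMap_apply σ MvPolynomial.X p.1 p.2)

theorem smooth_and_cover_grass :
    SmoothOfRelativeDimension (k * (n - k)) (str R (Fin n → R) k) ∧
      ∀ σ : Fin k ↪ Fin n, ∃ e : Spec (CommRingCat.of (Sr R (Idx.single (stdTuple R σ)))) ≅
          𝔸(ULift.{u} (Fin (k * (n - k))); Spec (CommRingCat.of R)),
        e.hom ≫ (𝔸(ULift.{u} (Fin (k * (n - k))); Spec (CommRingCat.of R)) ↘ Spec (CommRingCat.of R)) =
          chart _ ≫ str R (Fin n → R) k := by
  have hiso : ∀ σ : Fin k ↪ Fin n,
      ∃ e : MvPolynomial (ULift.{u} (Fin (k * (n - k)))) R ≃ₐ[R] Sr R (Idx.single (stdTuple R σ)),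
        True := fun σ =>
    ⟨(MvPolynomial.renameEquiv R (Equiv.ulift.trans
      ((Finite.equivFinOfCardEq (card_free σ)).symm))).trans (chartRingEquiv σ), trivial⟩
  choose e _ using hiso
  refine ⟨?_, fun σ => ?_⟩
  · let 𝒰 : (carrier R (Fin n → R) k).OpenCover :=
      Scheme.Cover.mkOfCovers (P := @IsOpenImmersion) (Fin k ↪ Fin n) _
        (fun σ => chart (R := R) (Idx.single (stdTuple R σ))) (fun x => by
          have := (iSup_chart_std (R := R) (n := n) (k := k)).ge (show x ∈ (⊤ : _) from trivial)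
          obtain ⟨σ, y, hy⟩ := TopologicalSpace.Opens.mem_iSup.mp this
          exact ⟨σ, y, hy⟩) (fun _ => inferInstance)
    refine IsZariskiLocalAtSource.of_openCover (P := @SmoothOfRelativeDimension (k * (n - k))) 𝒰
      fun σ => ?_
    show SmoothOfRelativeDimension _ (chart _ ≫ str R _ k)
    rw [chart_str, ← (e σ).toAlgHom.comp_algebraMap, CommRingCat.ofHom_comp, Spec.map_comp]
    haveI : IsIso (CommRingCat.ofHom (RingHomClass.toRingHom (e σ).toAlgHom)) :=
      (e σ).toRingEquiv.toCommRingCatIso.isIso_hom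
    refine (MorphismProperty.cancel_left_of_respectsIso (@SmoothOfRelativeDimension (k * (n - k))) _ _).mpr ?_
    exact smoothOfRelativeDimension_mvPolynomial R _ ((Nat.card_congr Equiv.ulift).trans (Nat.card_fin _))
  · refine ⟨Scheme.Spec.mapIso ((e σ).toRingEquiv.toCommRingCatIso).op ≪≫
      (AffineSpace.SpecIso _ (CommRingCat.of R)).symm, ?_⟩
    rw [Iso.trans_hom, Iso.symm_hom, Category.assoc, AffineSpace.SpecIso_inv_over, chart_str,
      ← (e σ).toAlgHom.comp_algebraMap, CommRingCat.ofHom_comp, Spec.map_comp]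
    rfl

end Groth.Agent.Lib.GrassRep
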