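import Groth.Agent.Lib.GrassRep.AffinePoints

/-!
# Representing schemes are isomorphic to the Grassmannian
-/

universe u

open CategoryTheory Limits AlgebraicGeometry TensorProduct

namespace Groth.Agent.Lib.GrassRep

theorem exists_iso_grass {R : Type u} [CommRing R] {M : Type u} [AddCommGroup M] [Module R M] {k : ℕ}
    (X : Over (Spec (CommRingCat.of R)))
    (e : ∀ A : CommAlgCat.{u} R, (pt R (A : Type u) ⟶ X) ≃ Gr R M k (A : Type u))
    (he : ∀ (A B : CommAlgCat.{u} R) (φ : A ⟶ B) (g : pt R (A : Type u) ⟶ X) (g' : pt R (B : Type u) ⟶ X),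
      g'.left = Sp φ.hom ≫ g.left → e B g' = Module.Grassmannian.map φ.hom (e A g)) :
    ∃ Φ : X ≅ grass R M k, ∀ (A : Type u) [CommRing A] [Algebra R A] (g : pt R A ⟶ X),
      grassEquiv A (g ≫ Φ.hom) = e (CommAlgCat.of R A) g := by
  obtain ⟨Φ, hΦ⟩ := exists_iso (fun (A : Type u) [CommRing A] [Algebra R A] =>
    (e (CommAlgCat.of R A)).trans (grassEquiv A).symm) (by
      intro A B _ _ _ _ φ g g' h
      let p : pt R B ⟶ pt R A := Over.homMk (Sp φ) (Sp_str φ)
      have key : p ≫ (grassEquiv A).symm (e (CommAlgCat.of R A) g) =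
          (grassEquiv B).symm (e (CommAlgCat.of R B) g') := by
        apply (grassEquiv B).injective
        rw [Equiv.apply_symm_apply, he (CommAlgCat.of R A) (CommAlgCat.of R B) (CommAlgCat.ofHom φ) g g' h,
          grassEquiv_natural φ ((grassEquiv A).symm (e (CommAlgCat.of R A) g)) _ rfl, Equiv.apply_symm_apply]
        rfl
      exact (congrArg CommaMorphism.left key).symm)
  exact ⟨Φ, fun A _ _ g => by rw [hΦ]; exact Equiv.apply_symm_apply _ _⟩

end Groth.Agent.Lib.GrassRep
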