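import Groth.Agent.Lib.GrassRep.Local
import Mathlib.RingTheory.MvPolynomial.Basic

/-!
# Chart rings of Grassmannians

* `S x`: the ring of the chart of the tuple `x`;
* `Sr s`: the ring of the intersection of the charts of a finite nonempty set `s` of tuples;
* `homEquiv`: `Sr s →ₐ A` = points with all tuples in `s` frames;
* `isLocalization_trans`: transition maps are localizations.
-/

universe u

open TensorProduct Module

namespace Groth.Agent.Lib.GrassRep

set_option linter.style.haveILetI false

variable {R : Type u} [CommRing R] {M : Type u} [AddCommGroup M] [Module R M] {k : ℕ}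
  {A B : Type u} [CommRing A] [Algebra R A] [CommRing B] [Algebra R B]

open MvPolynomial in
/-- The relations of the chart ring. -/
noncomputable def rel (R : Type u) [CommRing R] {M : Type u} [AddCommGroup M] [Module R M] {k : ℕ}
    (x : Fin k → M) : Ideal (MvPolynomial (Fin k × M) R) :=
  Ideal.span
    ((Set.range fun p : Fin k × M × M => X (p.1, p.2.1 + p.2.2) - X (p.1, p.2.1) - X (p.1, p.2.2)) ∪
      (Set.range fun p : Fin k × R × M => X (p.1, p.2.1 • p.2.2) - C p.2.1 * X (p.1, p.2.2)) ∪
      (Set.range fun p : Fin k × Fin k =>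
        X (p.1, x p.2) - C ((Pi.single p.2 1 : Fin k → R) p.1)))

/-- The chart ring. -/
def S (R : Type u) [CommRing R] {M : Type u} [AddCommGroup M] [Module R M] {k : ℕ} (x : Fin k → M) :
    Type u := MvPolynomial (Fin k × M) R ⧸ rel R x

noncomputable instance (x : Fin k → M) : CommRing (S R x) :=
  inferInstanceAs (CommRing (MvPolynomial (Fin k × M) R ⧸ rel R x))

noncomputable instance (x : Fin k → M) : Algebra R (S R x) :=
  inferInstanceAs (Algebra R (MvPolynomial (Fin k × M) R ⧸ rel R x))

/-- The coordinates. -/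
noncomputable def coord (x : Fin k → M) (i : Fin k) (m : M) : S R x :=
  Ideal.Quotient.mk (rel R x) (MvPolynomial.X (i, m))

lemma single_alg (j i : Fin k) :
    algebraMap R A ((Pi.single j 1 : Fin k → R) i) = (Pi.single j 1 : Fin k → A) i := by
  rcases eq_or_ne i j with h | h
  · subst h; simp
  · simp [Pi.single_eq_of_ne h]

/-- The universal coordinate map. -/
noncomputable def phiU (R : Type u) [CommRing R] {M : Type u} [AddCommGroup M] [Module R M] {k : ℕ}
    (x : Fin k → M) : Phi R x (S R x) :=
  ⟨{ toFun := fun m i => coord x i m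
     map_add' := fun m m' => funext fun i => by
      have h : MvPolynomial.X (i, m + m') - MvPolynomial.X (i, m) - MvPolynomial.X (i, m') ∈ rel R x :=
        Ideal.subset_span (Or.inl (Or.inl ⟨(i, m, m'), rfl⟩))
      have h' := Ideal.Quotient.eq_zero_iff_mem.mpr h
      rw [map_sub, map_sub, sub_sub, sub_eq_zero] at h'
      exact h'
     map_smul' := fun r m => funext fun i => by
      have h : MvPolynomial.X (i, r • m) - MvPolynomial.C r * MvPolynomial.X (i, m) ∈ rel R x :=
        Ideal.subset_span (Or.inl (Or.inr ⟨(i, r, m), rfl⟩))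
      have h' := Ideal.Quotient.eq_zero_iff_mem.mpr h
      rw [map_sub, map_mul, sub_eq_zero] at h'
      rw [RingHom.id_apply, Pi.smul_apply, Algebra.smul_def]
      exact h' },
    fun j => funext fun i => by
      have h : MvPolynomial.X (i, x j) - MvPolynomial.C ((Pi.single j 1 : Fin k → R) i) ∈ rel R x :=
        Ideal.subset_span (Or.inr ⟨(i, j), rfl⟩)
      have h' := Ideal.Quotient.eq_zero_iff_mem.mpr h
      rw [map_sub, sub_eq_zero] at h'
      refine h'.trans (Eq.trans ?_ (single_alg (R := R) (A := S R x) j i))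
      rfl⟩

/-- The map classifying a coordinate map. -/
noncomputable def liftS {x : Fin k → M} (φ : Phi R x A) : S R x →ₐ[R] A :=
  Ideal.Quotient.liftₐ (rel R x) (MvPolynomial.aeval fun p : Fin k × M => φ.1 p.2 p.1) (by
    intro a ha
    refine RingHom.mem_ker.mp ((Ideal.span_le.mpr ?_) ha)
    rintro _ ((⟨⟨i, m, m'⟩, rfl⟩ | ⟨⟨i, r, m⟩, rfl⟩) | ⟨⟨i, j⟩, rfl⟩) <;>
      simp only [SetLike.mem_coe, RingHom.mem_ker, map_sub, map_mul, MvPolynomial.aeval_X,
        MvPolynomial.aeval_C]
    · simp
    · simp [Algebra.smul_def]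
    · rw [single_alg, φ.2, sub_self])

lemma liftS_coord {x : Fin k → M} (φ : Phi R x A) (i : Fin k) (m : M) :
    liftS φ (coord x i m) = φ.1 m i :=
  MvPolynomial.aeval_X _ _

lemma algHom_ext_coord {x : Fin k → M} {f g : S R x →ₐ[R] A}
    (h : ∀ i m, f (coord x i m) = g (coord x i m)) : f = g :=
  Ideal.Quotient.algHom_ext R (MvPolynomial.algHom_ext fun p => h p.1 p.2)

/-- The point of the chart. -/
noncomputable def univS (R : Type u) [CommRing R] {M : Type u} [AddCommGroup M] [Module R M] {k : ℕ}
    (x : Fin k → M) : Gr R M k (S R x) :=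
  ofPhi (phiU R x)

lemma gen_univS (x : Fin k → M) : Gen (univS R x) x := gen_ofPhi _

lemma phi_univS (x : Fin k → M) (m : M) (i : Fin k) :
    phi (univS R x) x (gen_univS x) m i = coord x i m :=
  congrFun (LinearMap.congr_fun (phi_ofPhi (phiU R x) (gen_univS x)) m) i

lemma map_liftS {N : Gr R M k A} {x : Fin k → M} (h : Gen N x) :
    Grassmannian.map (liftS (toPhi N x h)) (univS R x) = N :=
  Gen.ext ((gen_univS x).map _) h <| LinearMap.ext fun m => funext fun i => by
    rw [phi_map (gen_univS x), phi_univS, liftS_coord]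
    rfl

lemma phi_congr {N N' : Gr R M k A} (e : N = N') {x : Fin k → M} (h : Gen N x) (h' : Gen N' x) :
    phi N x h = phi N' x h' := by
  subst e
  rfl

lemma chart_ext {x : Fin k → M} {f g : S R x →ₐ[R] A}
    (h : Grassmannian.map f (univS R x) = Grassmannian.map g (univS R x)) : f = g :=
  algHom_ext_coord fun i m => by
    rw [← phi_univS x m i, ← phi_map (gen_univS x) f, ← phi_map (gen_univS x) g]
    exact congrFun (LinearMap.congr_fun (phi_congr h _ _) m) i

lemma det_mat_map {N : Gr R M k A} {x : Fin k → M} (h : Gen N x) (f : A →ₐ[R] B) (y : Fin k → M) :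
    (mat (Grassmannian.map f N) x (h.map f) y).det = f (mat N x h y).det := by
  rw [AlgHom.map_det]
  congr 1
  ext i j
  exact phi_map h f (y j) i

/-! ### Intersections of charts -/

/-- Finite nonempty sets of tuples, ordered by reverse inclusion. -/
structure Idx (M : Type u) (k : ℕ) : Type u where
  /-- The tuples. -/
  val : Finset (Fin k → M)
  nonempty : val.Nonempty

/-- A chosen tuple. -/
noncomputable def Idx.base (s : Idx M k) : Fin k → M := s.nonempty.choose

lemma Idx.base_mem (s : Idx M k) : s.base ∈ s.val := s.nonempty.choose_spec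

/-- Points in the charts of all tuples of `s`. -/
abbrev Pts (R : Type u) [CommRing R] {M : Type u} [AddCommGroup M] [Module R M] {k : ℕ}
    (s : Idx M k) (A : Type u) [CommRing A] [Algebra R A] : Type u :=
  {N : Gr R M k A // ∀ y ∈ s.val, Gen N y}

/-- The equation of the intersection. -/
noncomputable def eqn (R : Type u) [CommRing R] {M : Type u} [AddCommGroup M] [Module R M] {k : ℕ}
    (s : Idx M k) : S R s.base :=
  ∏ y ∈ s.val, (mat (univS R s.base) s.base (gen_univS _) y).det

/-- The ring of an intersection of charts. -/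
abbrev Sr (R : Type u) [CommRing R] {M : Type u} [AddCommGroup M] [Module R M] {k : ℕ}
    (s : Idx M k) : Type u := Localization.Away (eqn R s)

/-- The point of an intersection. -/
noncomputable def univ (R : Type u) [CommRing R] {M : Type u} [AddCommGroup M] [Module R M] {k : ℕ}
    (s : Idx M k) : Pts R s (Sr R s) :=
  ⟨Grassmannian.map (ia R (eqn R s)) (univS R s.base), fun y hy => by
    rw [gen_iff_isUnit_det ((gen_univS _).map _), det_mat_map]
    have h := IsLocalization.Away.algebraMap_isUnit (S := Sr R s) (eqn R s)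
    rw [show algebraMap (S R s.base) (Sr R s) (eqn R s) = ∏ y ∈ s.val,
      algebraMap (S R s.base) (Sr R s) (mat (univS R s.base) s.base (gen_univS _) y).det from
      map_prod _ _ _, IsUnit.prod_iff] at h
    exact h y hy⟩

/-- The map classifying a point. -/
noncomputable def clsf {s : Idx M k} (P : Pts R s A) : Sr R s →ₐ[R] A :=
  IsLocalization.liftAlgHom (M := Submonoid.powers (eqn R s))
    (f := liftS (toPhi P.1 s.base (P.2 _ s.base_mem))) (fun z => by
      obtain ⟨_, n, rfl⟩ := z
      rw [map_pow]
      refine IsUnit.pow n ?_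
      rw [eqn, map_prod, IsUnit.prod_iff]
      intro y hy
      rw [← det_mat_map (gen_univS _), ← gen_iff_isUnit_det ((gen_univS _).map _), map_liftS]
      exact P.2 y hy)

lemma clsf_comp {s : Idx M k} (P : Pts R s A) :
    (clsf P).comp (ia R (eqn R s)) = liftS (toPhi P.1 s.base (P.2 _ s.base_mem)) :=
  AlgHom.ext fun z => by
    show clsf P (algebraMap _ _ z) = _
    rw [clsf, IsLocalization.liftAlgHom_apply]
    exact IsLocalization.lift_eq _ _

lemma map_clsf {s : Idx M k} (P : Pts R s A) : Grassmannian.map (clsf P) (univ R s).1 = P.1 := by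
  show Grassmannian.map (clsf P) (Grassmannian.map _ _) = _
  rw [← Grassmannian.map_comp, clsf_comp, map_liftS]

lemma hom_ext {s : Idx M k} {f g : Sr R s →ₐ[R] A}
    (h : Grassmannian.map f (univ R s).1 = Grassmannian.map g (univ R s).1) : f = g := by
  refine IsLocalization.algHom_ext (R := R) (Submonoid.powers (eqn R s)) ?_
  refine chart_ext ?_
  rw [Grassmannian.map_comp, Grassmannian.map_comp]
  exact h

/-- The restriction of a point. -/
noncomputable def mapPts {s : Idx M k} (f : A →ₐ[R] B) (P : Pts R s A) : Pts R s B :=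
  ⟨Grassmannian.map f P.1, fun y hy => (P.2 y hy).map f⟩

lemma clsf_map {s : Idx M k} (f : A →ₐ[R] B) (P : Pts R s A) :
    clsf (mapPts f P) = f.comp (clsf P) :=
  hom_ext (by rw [map_clsf, Grassmannian.map_comp, map_clsf]; rfl)

/-- Forgetting tuples. -/
def Pts.le {s t : Idx M k} (h : t.val ⊆ s.val) (P : Pts R s A) : Pts R t A :=
  ⟨P.1, fun y hy => P.2 y (h hy)⟩

/-- The transition map. -/
noncomputable def trans {s t : Idx M k} (h : t.val ⊆ s.val) : Sr R t →ₐ[R] Sr R s :=
  clsf ((univ R s).le h)

lemma trans_comp {r s t : Idx M k} (h : t.val ⊆ s.val) (h' : s.val ⊆ r.val) :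
    (trans (R := R) h').comp (trans h) = trans (h.trans h') :=
  hom_ext (by
    rw [Grassmannian.map_comp]
    refine Eq.trans ?_ (map_clsf ((univ R r).le (h.trans h'))).symm
    rw [show Grassmannian.map (trans h) (univ R t).1 = (univ R s).1 from map_clsf _]
    exact map_clsf ((univ R r).le h'))

lemma trans_self (s : Idx M k) : trans (R := R) (subset_refl s.val) = AlgHom.id R _ :=
  hom_ext (by rw [trans, map_clsf]; exact (Grassmannian.map_id k (CommAlgCat.of R (Sr R s)) _).symm)

lemma clsf_le {s t : Idx M k} (h : t.val ⊆ s.val) (P : Pts R s A) :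
    clsf (P.le h) = (clsf P).comp (trans h) :=
  hom_ext (by rw [map_clsf, Grassmannian.map_comp, trans, map_clsf]; exact (map_clsf P).symm)

/-- The transition maps are localizations. -/
theorem isLocalization_trans {s t : Idx M k} (h : t.val ⊆ s.val) :
    ∃ d : Sr R t, letI := (trans (R := R) h).toAlgebra; IsLocalization.Away d (Sr R s) := by
  let g := (univ R t).1
  have hg : Gen g t.base := (univ R t).2 _ t.base_mem
  let d : Sr R t := ∏ y ∈ s.val, (mat g t.base hg y).det
  refine ⟨d, ?_⟩
  let L := Localization.Away d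
  let P : Pts R s L := ⟨Grassmannian.map (ia R d) g, fun y hy => by
    rw [gen_iff_isUnit_det (hg.map _), det_mat_map]
    have h := IsLocalization.Away.algebraMap_isUnit (S := L) d
    rw [show algebraMap (Sr R t) L d = ∏ y ∈ s.val, algebraMap (Sr R t) L (mat g t.base hg y).det from
      map_prod _ _ _, IsUnit.prod_iff] at h
    exact h y hy⟩
  have hd : IsUnit (trans h d) := by
    rw [map_prod, IsUnit.prod_iff]
    intro y hy
    rw [← det_mat_map hg, ← gen_iff_isUnit_det (hg.map _), trans, map_clsf]
    exact (univ R s).2 y hy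
  let α : L →ₐ[R] Sr R s := IsLocalization.liftAlgHom (M := Submonoid.powers d) (f := trans h)
    (fun z => by obtain ⟨_, n, rfl⟩ := z; rw [map_pow]; exact hd.pow n)
  have hα : α.comp (ia R d) = trans h := AlgHom.ext fun z => by
    show α (algebraMap _ _ z) = _
    rw [IsLocalization.liftAlgHom_apply]
    exact IsLocalization.lift_eq _ _
  have h1 : α.comp (clsf P) = AlgHom.id R _ := hom_ext (by
    rw [Grassmannian.map_comp, map_clsf, ← Grassmannian.map_comp, hα, trans, map_clsf]
    exact (Grassmannian.map_id k (CommAlgCat.of R (Sr R s)) _).symm)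
  have h2 : (clsf P).comp (trans h) = ia R d := hom_ext (by
    rw [Grassmannian.map_comp, trans, map_clsf]
    exact map_clsf P)
  have h3 : (clsf P).comp α = AlgHom.id R L :=
    IsLocalization.algHom_ext (R := R) (Submonoid.powers d) (by
      show ((clsf P).comp α).comp (ia R d) = ia R d
      rw [AlgHom.comp_assoc, hα, h2])
  letI := (trans (R := R) h).toAlgebra
  let e : L ≃ₐ[Sr R t] Sr R s := AlgEquiv.ofRingEquiv
    (f := (AlgEquiv.ofAlgHom α (clsf P) h1 h3).toRingEquiv) (fun z => AlgHom.congr_fun hα z)
  exact IsLocalization.isLocalization_of_algEquiv (Submonoid.powers d) e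

end Groth.Agent.Lib.GrassRep
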