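import Groth.Agent.Lib.GrassRep.Points
import Mathlib.RingTheory.Localization.BaseChange
import Mathlib.RingTheory.LocalProperties.FinitePresentation
import Mathlib.RingTheory.Flat.Localization
import Mathlib.RingTheory.Flat.EquationalCriterion
import Mathlib.RingTheory.Localization.Finiteness
import Mathlib.Algebra.Module.LocalizedModule.Away

/-!
# Points of Grassmannians are local
-/

universe u

open TensorProduct Module

namespace Groth.Agent.Lib.GrassRep

set_option linter.style.haveILetI false

variable {R : Type u} [CommRing R] {M : Type u} [AddCommGroup M] [Module R M] {k : ℕ}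
  {A B : Type u} [CommRing A] [Algebra R A] [CommRing B] [Algebra R B]

/-- The localization map. -/
noncomputable abbrev ia (R : Type u) [CommRing R] {A : Type u} [CommRing A] [Algebra R A] (a : A) :
    A →ₐ[R] Localization.Away a := IsScalarTower.toAlgHom R A _

theorem isLocalization_ia (a : A) :
    letI := (ia R a).toAlgebra; IsLocalization.Away a (Localization.Away a) := by
  have h : IsLocalization.Away a (Localization.Away a) := inferInstance
  convert! h
  exact Algebra.algebra_ext _ _ fun _ => rfl

theorem exists_pow_smul_mem (f : A →ₐ[R] B) (a : A)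
    (hB : letI := f.toAlgebra; IsLocalization.Away a B) (N : Gr R M k A) (z : A ⊗[R] M)
    (h : push M f z ∈ (Grassmannian.map f N).toSubmodule) : ∃ n : ℕ, a ^ n • z ∈ N.toSubmodule := by
  rw [push_mem_map_iff] at h
  letI := f.toAlgebra
  haveI := hB
  haveI : IsLocalizedModule (Submonoid.powers a) (TensorProduct.mk A B ((A ⊗[R] M) ⧸ N.toSubmodule) 1) :=
    (isLocalizedModule_iff_isBaseChange (Submonoid.powers a) B _).mpr (TensorProduct.isBaseChange A _ B)
  obtain ⟨⟨_, n, rfl⟩, hn⟩ := (IsLocalizedModule.eq_zero_iff (Submonoid.powers a)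
    (TensorProduct.mk A B ((A ⊗[R] M) ⧸ N.toSubmodule) 1)).mp h
  refine ⟨n, (Submodule.Quotient.mk_eq_zero _).mp ?_⟩
  rw [Submodule.Quotient.mk_smul]
  exact hn

theorem exists_push_eq (f : A →ₐ[R] B) (a : A) (hB : letI := f.toAlgebra; IsLocalization.Away a B)
    (w : B ⊗[R] M) : ∃ (n : ℕ) (z : A ⊗[R] M), push M f z = f a ^ n • w := by
  induction w using TensorProduct.induction_on with
  | zero => exact ⟨0, 0, by simp⟩
  | tmul b m =>
    letI := f.toAlgebra
    haveI := hB
    obtain ⟨⟨c, ⟨_, n, rfl⟩⟩, hc⟩ := IsLocalization.surj (Submonoid.powers a) b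
    replace hc : b * f (a ^ n) = f c := hc
    refine ⟨n, c ⊗ₜ[R] m, ?_⟩
    rw [push, LinearMap.rTensor_tmul, AlgHom.toLinearMap_apply, ← hc, TensorProduct.smul_tmul',
      smul_eq_mul, map_pow, mul_comm]
  | add w w' hw hw' =>
    obtain ⟨n, z, hz⟩ := hw
    obtain ⟨n', z', hz'⟩ := hw'
    refine ⟨n + n', a ^ n' • z + a ^ n • z', ?_⟩
    rw [map_add, push_smul, push_smul, hz, hz', smul_smul, smul_smul, ← map_pow, ← map_pow, ← map_pow,
      ← map_mul, ← map_mul, ← pow_add, ← pow_add, add_comm n' n, smul_add]

variable {ι : Type*} (a : ι → A) (ha : Ideal.span (Set.range a) = ⊤)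

include ha in
/-- Membership is local. -/
theorem mem_of_cover (N : Gr R M k A) (z : A ⊗[R] M)
    (h : ∀ i, push M (ia R (a i)) z ∈ (Grassmannian.map (ia R (a i)) N).toSubmodule) :
    z ∈ N.toSubmodule := by
  let J : Ideal A := N.toSubmodule.comap (LinearMap.toSpanSingleton A (A ⊗[R] M) z)
  have hJ : ∀ i, ∃ n : ℕ, a i ^ n ∈ J := fun i => by
    obtain ⟨n, hn⟩ := exists_pow_smul_mem (ia R (a i)) (a i) (isLocalization_ia (a i)) N z (h i)
    exact ⟨n, hn⟩
  choose n hn using hJ
  choose idx hidx using fun r : Set.range a => r.2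
  have h1 := Ideal.span_range_pow_eq_top (Set.range a) ha fun r => n (idx r)
  have : (1 : A) ∈ J :=
    (Ideal.span_le.mpr (Set.range_subset_iff.mpr fun r : Set.range a =>
      (show r.1 ^ n (idx r) ∈ J by
        have h2 := hn (idx r)
        rwa [hidx r] at h2))) (h1 ▸ Submodule.mem_top)
  simpa [J] using this

include ha in
theorem ext_of_cover {N N' : Gr R M k A}
    (h : ∀ i, Grassmannian.map (ia R (a i)) N = Grassmannian.map (ia R (a i)) N') : N = N' :=
  Grassmannian.ext (SetLike.ext fun z =>
    ⟨fun hz => mem_of_cover a ha N' z fun i => h i ▸ push_mem_map _ N hz,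
      fun hz => mem_of_cover a ha N z fun i => (h i).symm ▸ push_mem_map _ N' hz⟩)

include ha in
/-- Points glue. -/
theorem exists_glue [Finite ι] (Ni : ∀ i, Gr R M k (Localization.Away (a i)))
    (hc : ∀ i j (C : Type u) [CommRing C] [Algebra R C] (f : Localization.Away (a i) →ₐ[R] C)
      (g : Localization.Away (a j) →ₐ[R] C), f.comp (ia R (a i)) = g.comp (ia R (a j)) →
        Grassmannian.map f (Ni i) = Grassmannian.map g (Ni j)) :
    ∃ N : Gr R M k A, ∀ i, Grassmannian.map (ia R (a i)) N = Ni i := by
  cases nonempty_fintype ι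
  let N₀ : Submodule A (A ⊗[R] M) :=
    { carrier := {z | ∀ i, push M (ia R (a i)) z ∈ (Ni i).toSubmodule}
      zero_mem' := fun i => by rw [map_zero]; exact zero_mem _
      add_mem' := fun hz hw i => by rw [map_add]; exact add_mem (hz i) (hw i)
      smul_mem' := fun c z hz i => by rw [push_smul]; exact Submodule.smul_mem _ _ (hz i) }
  -- the compatibility on overlaps
  have key : ∀ i j z, push M (ia R (a i)) z ∈ (Ni i).toSubmodule →
      ∃ m : ℕ, push M (ia R (a j)) (a i ^ m • z) ∈ (Ni j).toSubmodule := by
    intro i j z hz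
    let C := Localization.Away (ia R (a j) (a i))
    have hu : IsUnit (algebraMap A C (a i)) := by
      rw [IsScalarTower.algebraMap_apply A (Localization.Away (a j)) C]
      exact IsLocalization.Away.algebraMap_isUnit (ia R (a j) (a i))
    let f : Localization.Away (a i) →ₐ[R] C := IsLocalization.liftAlgHom
      (M := Submonoid.powers (a i)) (f := IsScalarTower.toAlgHom R A C)
      (fun y => by obtain ⟨_, n, rfl⟩ := y; rw [map_pow]; exact hu.pow n)
    let g : Localization.Away (a j) →ₐ[R] C := ia R (ia R (a j) (a i))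
    have hfg : f.comp (ia R (a i)) = g.comp (ia R (a j)) := AlgHom.ext fun x => by
      show f (algebraMap A (Localization.Away (a i)) x) = _
      rw [IsLocalization.liftAlgHom_apply, IsLocalization.lift_eq]
      exact IsScalarTower.algebraMap_apply A (Localization.Away (a j)) C x
    have h1 : push M g (push M (ia R (a j)) z) ∈ (Grassmannian.map g (Ni j)).toSubmodule := by
      rw [← hc i j C f g hfg]
      have h2 := push_mem_map f (Ni i) hz
      rwa [push, push, ← LinearMap.comp_apply, ← LinearMap.rTensor_comp, ← AlgHom.comp_toLinearMap, hfg,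
        AlgHom.comp_toLinearMap, LinearMap.rTensor_comp] at h2
    obtain ⟨m, hm⟩ := exists_pow_smul_mem g _ (isLocalization_ia _) (Ni j) _ h1
    exact ⟨m, by rw [push_smul, map_pow]; exact hm⟩
  have num : ∀ i z, push M (ia R (a i)) z ∈ (Ni i).toSubmodule → ∃ m : ℕ, a i ^ m • z ∈ N₀ := by
    intro i z hz
    choose m hm using fun j => key i j z hz
    refine ⟨Finset.univ.sup m, fun j => ?_⟩
    rw [← Nat.sub_add_cancel (Finset.le_sup (f := m) (Finset.mem_univ j)), pow_add, mul_smul, push_smul]
    exact Submodule.smul_mem _ _ (hm j)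
  have hu : ∀ i, IsUnit (ia R (a i) (a i)) := fun i => IsLocalization.Away.algebraMap_isUnit (a i)
  let Qi := fun i => (Localization.Away (a i) ⊗[R] M) ⧸ (Ni i).toSubmodule
  let ρ : ∀ i, ((A ⊗[R] M) ⧸ N₀) →ₗ[A] Qi i := fun i =>
    N₀.liftQ
      { toFun := fun z => (Ni i).toSubmodule.mkQ (push M (ia R (a i)) z)
        map_add' := fun z w => by rw [map_add, map_add]
        map_smul' := fun c z => by
          rw [push_smul, map_smul, RingHom.id_apply]
          exact algebraMap_smul _ _ _ }
      (fun z hz => (Submodule.Quotient.mk_eq_zero _).mpr (hz i))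
  have hρ : ∀ i, IsLocalizedModule.Away (a i) (ρ i) := fun i => by
    refine IsLocalizedModule.Away.mk_of_addCommGroup ?_ (fun y => ?_) fun x hx => ?_
    · rw [Module.End.isUnit_iff]
      obtain ⟨v, hv⟩ := (hu i).exists_right_inv
      refine Function.bijective_iff_has_inverse.mpr
        ⟨fun y => v • y, fun y => ?_, fun y => ?_⟩
      · show v • (a i • y) = y
        rw [← algebraMap_smul (Localization.Away (a i)) (a i) y, smul_smul, mul_comm]
        exact (congrArg (· • y) hv).trans (one_smul _ y)
      · show a i • (v • y) = y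
        rw [← algebraMap_smul (Localization.Away (a i)) (a i), smul_smul]
        exact (congrArg (· • y) hv).trans (one_smul _ y)
    · obtain ⟨w, rfl⟩ := Submodule.mkQ_surjective _ y
      obtain ⟨n, z, hz⟩ := exists_push_eq (ia R (a i)) (a i) (isLocalization_ia (a i)) w
      refine ⟨n, Submodule.Quotient.mk z, ?_⟩
      show _ = (Ni i).toSubmodule.mkQ (push M (ia R (a i)) z)
      rw [hz, map_smul, ← map_pow]
      exact (algebraMap_smul _ _ _).symm
    · obtain ⟨z, rfl⟩ := Submodule.mkQ_surjective _ x
      obtain ⟨m, hm⟩ := num i z ((Submodule.Quotient.mk_eq_zero _).mp hx)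
      exact ⟨m, by rw [← map_smul]; exact (Submodule.Quotient.mk_eq_zero _).mpr hm⟩
  let s : Set A := Set.range a
  have hs : Ideal.span s = ⊤ := ha
  choose idx hidx using fun r : s => r.2
  haveI : ∀ r : s, IsLocalization.Away r.1 (Localization.Away (a (idx r))) := fun r => by
    rw [← hidx r]; infer_instance
  haveI : ∀ r : s, IsLocalizedModule.Away r.1 (ρ (idx r)) := fun r => by rw [← hidx r]; exact hρ _
  haveI hfin : ∀ i, Module.Finite (Localization.Away (a i)) (Qi i) := fun i => (Ni i).finite_quotient
  haveI hproj : ∀ i, Module.Projective (Localization.Away (a i)) (Qi i) := fun i =>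
    (Ni i).projective_quotient
  haveI : Module.FinitePresentation A ((A ⊗[R] M) ⧸ N₀) :=
    Module.FinitePresentation.of_localizationSpan' s hs (Rₚ := fun r : s => Localization.Away (a (idx r)))
      (fun r : s => ρ (idx r)) fun r => Module.finitePresentation_of_projective _ _
  haveI : Module.Flat A ((A ⊗[R] M) ⧸ N₀) := by
    refine Module.flat_of_isLocalized_span A _ s hs (fun r : s => Qi (idx r))
      (fun r : s => ρ (idx r)) fun r => ?_
    haveI : Module.Flat A (Localization.Away (a (idx r))) :=
      IsLocalization.flat _ (Submonoid.powers (a (idx r)))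
    exact Module.Flat.trans A (Localization.Away (a (idx r))) _
  let N : Gr R M k A :=
    { toSubmodule := N₀
      finite_quotient := inferInstance
      projective_quotient := Module.Flat.projective_of_finitePresentation
      rankAtStalk_eq := fun p => by
        haveI : Module.Projective A ((A ⊗[R] M) ⧸ N₀) := Module.Flat.projective_of_finitePresentation
        obtain ⟨i, hi⟩ : ∃ i, a i ∉ p.asIdeal := by
          by_contra h
          push Not at h
          exact p.2.ne_top (top_le_iff.mp (ha.ge.trans (Ideal.span_le.mpr (Set.range_subset_iff.mpr h))))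
        have hb : IsBaseChange (Localization.Away (a i)) (ρ i) :=
          (isLocalizedModule_iff_isBaseChange (Submonoid.powers (a i)) _ _).mp (hρ i)
        obtain ⟨q, hq⟩ : p ∈ Set.range (PrimeSpectrum.comap (algebraMap A (Localization.Away (a i)))) := by
          rw [PrimeSpectrum.localization_away_comap_range (Localization.Away (a i)) (a i)]
          exact hi
        rw [← hq, ← Module.rankAtStalk_isBaseChange hb]
        exact (Ni i).rankAtStalk_eq q }
  refine ⟨N, fun i => Grassmannian.ext (SetLike.ext fun w => ?_)⟩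
  obtain ⟨n, z, hz⟩ := exists_push_eq (ia R (a i)) (a i) (isLocalization_ia (a i)) w
  rw [← Submodule.smul_mem_iff_of_isUnit _ ((hu i).pow n), ← hz,
    ← Submodule.smul_mem_iff_of_isUnit (Ni i).toSubmodule ((hu i).pow n) (x := w), ← hz]
  refine ⟨fun h => ?_, fun h => ?_⟩
  · obtain ⟨m, hm⟩ := exists_pow_smul_mem (ia R (a i)) (a i) (isLocalization_ia (a i)) N z h
    have := hm i
    rwa [push_smul, map_pow, Submodule.smul_mem_iff_of_isUnit _ ((hu i).pow m)] at this
  · obtain ⟨m, hm⟩ := num i z h
    have := push_mem_map (ia R (a i)) N (z := a i ^ m • z) hm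
    rwa [push_smul, map_pow, Submodule.smul_mem_iff_of_isUnit _ ((hu i).pow m)] at this

end Groth.Agent.Lib.GrassRep
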