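import Groth.Agent.Lib.GrassRep.Scheme

/-!
# Morphisms from their values on affine points

* `exists_hom`: a natural family of maps on `A`-points comes from a morphism;
* `hom_ext_points`, `exists_iso`.
-/

universe u

open CategoryTheory Limits AlgebraicGeometry

namespace Groth.Agent.Lib.GrassRep

set_option linter.style.haveILetI false

variable {R : Type u} [CommRing R]

/-- `Spec A` over `Spec R`. -/
noncomputable abbrev pt (R : Type u) [CommRing R] (A : Type u) [CommRing A] [Algebra R A] :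
    Over (Spec (CommRingCat.of R)) := Over.mk (Spec.map (CommRingCat.ofHom (algebraMap R A)))

/-- Natural families of maps on points. -/
def IsNatural {X Y : Over (Spec (CommRingCat.of R))}
    (η : ∀ (A : Type u) [CommRing A] [Algebra R A], (pt R A ⟶ X) → (pt R A ⟶ Y)) : Prop :=
  ∀ (A B : Type u) [CommRing A] [Algebra R A] [CommRing B] [Algebra R B] (φ : A →ₐ[R] B)
    (g : pt R A ⟶ X) (g' : pt R B ⟶ X), g'.left = Sp φ ≫ g.left → (η B g').left = Sp φ ≫ (η A g).left

lemma exists_ptAlgebra {C : CommRingCat.{u}} (m : Spec C ⟶ Spec (CommRingCat.of R)) :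
    ∃ a : Algebra R C, Spec.map (CommRingCat.ofHom a.algebraMap) = m :=
  ⟨(Spec.preimage m).hom.toAlgebra, Spec.map_preimage m⟩

theorem hom_ext_points {X Y : Over (Spec (CommRingCat.of R))} {Φ Ψ : X ⟶ Y}
    (h : ∀ (A : Type u) [CommRing A] [Algebra R A] (g : pt R A ⟶ X), g ≫ Φ = g ≫ Ψ) : Φ = Ψ := by
  refine Over.OverMorphism.ext (X.left.affineOpenCover.openCover.hom_ext _ _ fun i => ?_)
  obtain ⟨a, ha⟩ := exists_ptAlgebra (R := R) (X.left.affineOpenCover.f i ≫ X.hom)
  letI := a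
  let g : pt R (X.left.affineOpenCover.X i) ⟶ X := Over.homMk (X.left.affineOpenCover.f i) ha.symm
  exact congrArg CommaMorphism.left (h _ g)

theorem exists_hom {X Y : Over (Spec (CommRingCat.of R))}
    (η : ∀ (A : Type u) [CommRing A] [Algebra R A], (pt R A ⟶ X) → (pt R A ⟶ Y)) (hη : IsNatural η) :
    ∃ Φ : X ⟶ Y, ∀ (A : Type u) [CommRing A] [Algebra R A] (g : pt R A ⟶ X), g ≫ Φ = η A g := by
  obtain ⟨𝒰⟩ : Nonempty (Scheme.AffineOpenCover.{u} X.left) := ⟨X.left.affineOpenCover⟩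
  choose a ha using fun i => exists_ptAlgebra (R := R) (𝒰.f i ≫ X.hom)
  letI := a
  let g₀ : ∀ i, pt R (𝒰.X i) ⟶ X := fun i => Over.homMk (𝒰.f i) (ha i).symm
  let m : ∀ i, Spec (𝒰.X i) ⟶ Y.left := fun i => (η (𝒰.X i) (g₀ i)).left
  have key : ∀ (i : 𝒰.I₀) (A : Type u) [CommRing A] [Algebra R A] (g : pt R A ⟶ X) (C : CommRingCat.{u})
      (u : Spec C ⟶ Spec (CommRingCat.of A)) (v : Spec C ⟶ Spec (𝒰.X i)),
      u ≫ g.left = v ≫ 𝒰.f i → u ≫ (η A g).left = v ≫ m i := by
    intro i A _ _ g C u v huv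
    obtain ⟨b, hb⟩ := exists_ptAlgebra (R := R) (u ≫ Spec.map (CommRingCat.ofHom (algebraMap R A)))
    letI := b
    obtain ⟨φ, hφ⟩ := exists_algHom (R := R) (A := A) (B := C) u hb.symm
    have hv : v ≫ Spec.map (CommRingCat.ofHom (algebraMap R (𝒰.X i))) =
        Spec.map (CommRingCat.ofHom (algebraMap R C)) := by
      refine Eq.trans ?_ hb.symm
      refine (congrArg (v ≫ ·) (ha i)).trans ?_
      rw [← reassoc_of% huv]
      exact congrArg (u ≫ ·) (Over.w g)
    obtain ⟨ψ, hψ⟩ := exists_algHom (R := R) (A := 𝒰.X i) (B := C) v hv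
    let g' : pt R C ⟶ X := Over.homMk (u ≫ g.left) (by
      show (u ≫ g.left) ≫ X.hom = _
      rw [Category.assoc, Over.w g]
      exact hb.symm)
    have h1 := hη A C φ g g' (by rw [hφ]; rfl)
    have h2 := hη (𝒰.X i) C ψ (g₀ i) g' (by rw [hψ]; exact huv)
    rw [hφ] at h1
    rw [hψ] at h2
    exact h1.symm.trans h2
  have hm : ∀ i j, pullback.fst (𝒰.openCover.f i) (𝒰.openCover.f j) ≫ m i =
      pullback.snd (𝒰.openCover.f i) (𝒰.openCover.f j) ≫ m j := by
    intro i j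
    let W := pullback (𝒰.openCover.f i) (𝒰.openCover.f j)
    refine W.affineOpenCover.openCover.hom_ext _ _ fun l => ?_
    refine (Category.assoc _ _ _).symm.trans (Eq.trans ?_ (Category.assoc _ _ _))
    exact key j (𝒰.X i) (g₀ i) _ _ _
      ((Category.assoc _ _ _).trans ((congrArg (_ ≫ ·) pullback.condition).trans
        (Category.assoc _ _ _).symm))
  let Φ : X.left ⟶ Y.left := 𝒰.openCover.glueMorphisms m hm
  have hΦ : ∀ i, 𝒰.f i ≫ Φ = m i := fun i => 𝒰.openCover.ι_glueMorphisms m hm i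
  have hw : Φ ≫ Y.hom = X.hom := 𝒰.openCover.hom_ext _ _ fun i => by
    show 𝒰.f i ≫ Φ ≫ Y.hom = 𝒰.f i ≫ X.hom
    rw [reassoc_of% hΦ i, Over.w (η (𝒰.X i) (g₀ i))]
    exact ha i
  refine ⟨Over.homMk Φ hw, fun A _ _ g => Over.OverMorphism.ext ?_⟩
  let 𝒱 := 𝒰.openCover.pullback₁ g.left
  refine Scheme.Cover.hom_ext 𝒱 _ _ fun i => (pullback g.left (𝒰.openCover.f i)).affineOpenCover.openCover.hom_ext _ _
    fun l => ?_
  let u := (pullback g.left (𝒰.openCover.f i)).affineOpenCover.f l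
  have h := key i A g _ (u ≫ pullback.fst g.left (𝒰.openCover.f i))
    (u ≫ pullback.snd g.left (𝒰.openCover.f i))
    ((Category.assoc _ _ _).trans ((congrArg (u ≫ ·) pullback.condition).trans (Category.assoc _ _ _).symm))
  show u ≫ pullback.fst g.left (𝒰.openCover.f i) ≫ g.left ≫ Φ =
    u ≫ pullback.fst g.left (𝒰.openCover.f i) ≫ (η A g).left
  refine Eq.trans ?_ (h.symm.trans (Category.assoc _ _ _))
  refine Eq.trans ?_ (Category.assoc _ _ _).symm
  refine congrArg (u ≫ ·) ((pullback.condition_assoc Φ).trans ?_)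
  exact congrArg (pullback.snd g.left (𝒰.openCover.f i) ≫ ·) (hΦ i)

/-- A natural bijection on points comes from an isomorphism. -/
theorem exists_iso {X Y : Over (Spec (CommRingCat.of R))}
    (η : ∀ (A : Type u) [CommRing A] [Algebra R A], (pt R A ⟶ X) ≃ (pt R A ⟶ Y))
    (hη : IsNatural fun A _ _ => η A) :
    ∃ Φ : X ≅ Y, ∀ (A : Type u) [CommRing A] [Algebra R A] (g : pt R A ⟶ X), g ≫ Φ.hom = η A g := by
  obtain ⟨Φ, hΦ⟩ := exists_hom (fun A _ _ => η A) hη
  have hnat : IsNatural (fun (A : Type u) [CommRing A] [Algebra R A] => ⇑(η A).symm) := by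
    intro A B _ _ _ _ φ h h' e
    let g := (η A).symm h
    let p : pt R B ⟶ pt R A := Over.homMk (Sp φ) (Sp_str φ)
    have h1 : (η B (p ≫ g)).left = h'.left := by
      rw [hη A B φ g (p ≫ g) rfl, e]
      simp [g]
    show ((η B).symm h').left = _
    rw [← Over.OverMorphism.ext h1, Equiv.symm_apply_apply]
    rfl
  obtain ⟨Ψ, hΨ⟩ := exists_hom (fun (A : Type u) [CommRing A] [Algebra R A] => ⇑(η A).symm) hnat
  refine ⟨⟨Φ, Ψ, hom_ext_points fun A _ _ g => ?_, hom_ext_points fun A _ _ g => ?_⟩, hΦ⟩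
  · rw [← Category.assoc, hΦ, hΨ, Equiv.symm_apply_apply, Category.comp_id]
  · rw [← Category.assoc, hΨ, hΦ, Equiv.apply_symm_apply, Category.comp_id]

end Groth.Agent.Lib.GrassRep
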