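import Groth.Agent.Lib.GrassRep.AffinePoints
import Mathlib.AlgebraicGeometry.Morphisms.ClosedImmersion
import Mathlib.RingTheory.TensorProduct.Quotient

/-!
# Grassmannians of a quotient module

For surjective `v : M₁ → M₂`, preimage of points is a natural injection `G(k, M₂) → G(k, M₁)`
(`comapPt`, `comapPt_map`, `comapPt_injective`) with image cut out by the ideal `killIdeal`; the
morphism inducing it between any representing schemes is a closed immersion
(`isClosedImmersion_of_comap`).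
-/

universe u

open CategoryTheory Limits AlgebraicGeometry TensorProduct Module

namespace Groth.Agent.Lib.GrassRep

set_option linter.style.haveILetI false

variable {R : Type u} [CommRing R] {M₁ M₂ : Type u} [AddCommGroup M₁] [Module R M₁] [AddCommGroup M₂]
  [Module R M₂] (v : M₁ →ₗ[R] M₂) (hv : Function.Surjective v) {k : ℕ}
  {A B : Type u} [CommRing A] [Algebra R A] [CommRing B] [Algebra R B]

/-- The preimage of a point. -/
noncomputable def comapPt (N : Gr R M₂ k A) : Gr R M₁ k A :=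
  let π : A ⊗[R] M₁ →ₗ[A] (A ⊗[R] M₂) ⧸ N.toSubmodule := N.toSubmodule.mkQ.comp (v.baseChange A)
  have hπ : Function.Surjective π :=
    (Submodule.mkQ_surjective _).comp (LinearMap.baseChange_surjective A hv)
  let e := π.quotKerEquivOfSurjective hπ
  have hker : LinearMap.ker π = N.toSubmodule.comap (v.baseChange A) := by
    rw [LinearMap.ker_comp, Submodule.ker_mkQ]
  { toSubmodule := N.toSubmodule.comap (v.baseChange A)
    finite_quotient := hker ▸ Module.Finite.equiv e.symm
    projective_quotient := hker ▸ Module.Projective.of_equiv e.symm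
    rankAtStalk_eq := fun p => by
      rw [← hker, congrFun (Module.rankAtStalk_eq_of_equiv e) p]
      exact N.rankAtStalk_eq p }

lemma comapPt_toSubmodule (N : Gr R M₂ k A) :
    (comapPt v hv N).toSubmodule = N.toSubmodule.comap (v.baseChange A) := rfl

theorem comapPt_injective : Function.Injective (comapPt (A := A) (k := k) v hv) := fun N N' h =>
  Grassmannian.ext (Submodule.comap_injective_of_surjective
    (LinearMap.baseChange_surjective A hv) (congrArg Grassmannian.toSubmodule h))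

theorem comapPt_map (f : A →ₐ[R] B) (N : Gr R M₂ k A) :
    Grassmannian.map f (comapPt v hv N) = comapPt v hv (Grassmannian.map f N) := by
  letI := f.toAlgebra
  haveI : IsScalarTower R A B := IsScalarTower.of_algebraMap_eq fun r => (f.commutes r).symm
  let Q₁ := (A ⊗[R] M₁) ⧸ (comapPt v hv N).toSubmodule
  let Q₂ := (A ⊗[R] M₂) ⧸ N.toSubmodule
  let w : Q₁ →ₗ[A] Q₂ := Submodule.mapQ _ _ (v.baseChange A) le_rfl
  have hw : Function.Bijective w := by
    refine ⟨?_, fun q => ?_⟩
    · rw [← LinearMap.ker_eq_bot, LinearMap.ker_eq_bot']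
      intro q hq
      obtain ⟨z, rfl⟩ := Submodule.mkQ_surjective _ q
      exact (Submodule.Quotient.mk_eq_zero _).mpr
        (show z ∈ N.toSubmodule.comap (v.baseChange A) from (Submodule.Quotient.mk_eq_zero N.toSubmodule).mp hq)
    · obtain ⟨z, rfl⟩ := Submodule.mkQ_surjective _ q
      obtain ⟨z, rfl⟩ := LinearMap.baseChange_surjective A hv z
      exact ⟨Submodule.Quotient.mk z, rfl⟩
  let e : B ⊗[A] Q₁ ≃ₗ[B] B ⊗[A] Q₂ := (LinearEquiv.ofBijective w hw).baseChange A B
  have key : ∀ z : B ⊗[R] M₁, e (Grassmannian.baseChangeMkQ B (comapPt v hv N).toSubmodule z) =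
      Grassmannian.baseChangeMkQ B N.toSubmodule (v.baseChange B z) := fun z => by
    induction z using TensorProduct.induction_on with
    | zero => simp
    | add a b ha hb => simp only [map_add, ha, hb]
    | tmul b m =>
      simp only [e, Grassmannian.baseChangeMkQ, LinearMap.comp_apply, LinearEquiv.coe_coe,
        AlgebraTensorModule.cancelBaseChange_symm_tmul, LinearMap.baseChange_tmul,
        LinearEquiv.baseChange_tmul]
      rfl
  refine Grassmannian.ext (SetLike.ext fun z => ?_)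
  rw [Grassmannian.map_toSubmodule, LinearMap.mem_ker]
  show _ ↔ v.baseChange B z ∈ (Grassmannian.map f N).toSubmodule
  rw [Grassmannian.map_toSubmodule, LinearMap.mem_ker, ← key, LinearEquiv.map_eq_zero_iff]

/-- The equations of the image. -/
noncomputable def killIdeal (N : Gr R M₁ k A) : Ideal A :=
  Ideal.span {a | ∃ z ∈ LinearMap.ker v, ∃ ψ : Module.Dual A ((A ⊗[R] M₁) ⧸ N.toSubmodule),
    ψ (cls N z) = a}

include hv in
theorem map_eq_comapPt_imp (f : A →ₐ[R] B) (N : Gr R M₁ k A) (N₂ : Gr R M₂ k B)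
    (h : Grassmannian.map f N = comapPt v hv N₂) : killIdeal v N ≤ RingHom.ker f.toRingHom := by
  refine Ideal.span_le.mpr ?_
  rintro _ ⟨z, hz, ψ, rfl⟩
  have h1 : push M₁ f ((1 : A) ⊗ₜ[R] z) ∈ (Grassmannian.map f N).toSubmodule := by
    rw [h, comapPt_toSubmodule, Submodule.mem_comap]
    simp [push, LinearMap.mem_ker.mp hz]
  rw [push_mem_map_iff] at h1
  letI := f.toAlgebra
  have h2 := congrArg (fun x => TensorProduct.rid A B (ψ.lTensor B x)) h1
  simp only [map_zero] at h2
  rw [LinearMap.lTensor_tmul, TensorProduct.rid_tmul,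
    Algebra.smul_def, mul_one] at h2
  exact h2

include hv in
theorem exists_comapPt_eq (f : A →ₐ[R] B) (N : Gr R M₁ k A)
    (h : killIdeal v N ≤ RingHom.ker f.toRingHom) :
    ∃ N₂ : Gr R M₂ k B, comapPt v hv N₂ = Grassmannian.map f N := by
  set P := Grassmannian.map f N with hP
  let vB := v.baseChange B
  have hsurj : Function.Surjective vB := LinearMap.baseChange_surjective B hv
  have hle : LinearMap.ker vB ≤ P.toSubmodule := by
    intro w hw
    have hex : Function.Exact ((LinearMap.ker v).subtype.lTensor B) (v.lTensor B) :=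
      lTensor_exact B v.exact_subtype_ker_map hv
    obtain ⟨t, rfl⟩ := (hex w).mp hw
    clear hw
    induction t using TensorProduct.induction_on with
    | zero => simp
    | add a b ha hb => rw [map_add]; exact add_mem ha hb
    | tmul b z =>
      rw [LinearMap.lTensor_tmul, show b ⊗ₜ[R] (LinearMap.ker v).subtype z =
        b • push M₁ f ((1 : A) ⊗ₜ[R] (z : M₁)) by simp [push, TensorProduct.smul_tmul']]
      refine Submodule.smul_mem _ _ ((push_mem_map_iff f N _).mpr ?_)
      letI := f.toAlgebra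
      obtain ⟨n, p, s, -, -, hps⟩ := Module.Finite.exists_comp_eq_id_of_projective A ((A ⊗[R] M₁) ⧸ N.toSubmodule)
      have h0 : ∀ i, f (s (cls N z) i) = 0 := fun i =>
        h (Ideal.subset_span ⟨z, z.2, (LinearMap.proj i).comp s, rfl⟩)
      show (1 : B) ⊗ₜ[A] cls N (z : M₁) = 0
      have h1 : p (s (cls N z)) = cls N z := LinearMap.congr_fun hps _
      rw [← h1, pi_eq_sum_univ' (s (cls N z)), map_sum, TensorProduct.tmul_sum]
      refine Finset.sum_eq_zero fun i _ => ?_
      rw [map_smul, TensorProduct.tmul_smul, TensorProduct.smul_tmul', Algebra.smul_def, mul_one]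
      show f _ ⊗ₜ[A] _ = 0
      rw [h0, TensorProduct.zero_tmul]
  let π : ((B ⊗[R] M₂) ⧸ P.toSubmodule.map vB) ≃ₗ[B] ((B ⊗[R] M₁) ⧸ P.toSubmodule) := by
    refine (LinearEquiv.ofBijective (Submodule.mapQ P.toSubmodule (P.toSubmodule.map vB) vB
      (Submodule.le_comap_map _ _)) ⟨?_, ?_⟩).symm
    · rw [← LinearMap.ker_eq_bot, LinearMap.ker_eq_bot']
      intro q hq
      obtain ⟨z, rfl⟩ := Submodule.mkQ_surjective _ q
      refine (Submodule.Quotient.mk_eq_zero _).mpr ?_
      have := (Submodule.Quotient.mk_eq_zero _).mp hq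
      rw [← Submodule.mem_comap, Submodule.comap_map_eq, sup_eq_left.mpr hle] at this
      exact this
    · intro q
      obtain ⟨z, rfl⟩ := Submodule.mkQ_surjective _ q
      obtain ⟨z, rfl⟩ := hsurj z
      exact ⟨Submodule.Quotient.mk z, rfl⟩
  refine ⟨{ toSubmodule := P.toSubmodule.map vB
            finite_quotient := Module.Finite.equiv π.symm
            projective_quotient := Module.Projective.of_equiv π.symm
            rankAtStalk_eq := fun p => by
              rw [congrFun (Module.rankAtStalk_eq_of_equiv π) p]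
              exact P.rankAtStalk_eq p }, Grassmannian.ext ?_⟩
  rw [comapPt_toSubmodule]
  show (P.toSubmodule.map vB).comap vB = _
  rw [Submodule.comap_map_eq, sup_eq_left.mpr hle]

/-! ### Representing schemes -/

variable {X₁ X₂ : Over (Spec (CommRingCat.of R))}
  (e₁ : ∀ A : CommAlgCat.{u} R, (pt R (A : Type u) ⟶ X₁) ≃ Gr R M₁ k (A : Type u))
  (he₁ : ∀ (A B : CommAlgCat.{u} R) (φ : A ⟶ B) (g : pt R (A : Type u) ⟶ X₁) (g' : pt R (B : Type u) ⟶ X₁),
    g'.left = Sp φ.hom ≫ g.left → e₁ B g' = Grassmannian.map φ.hom (e₁ A g))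
  (e₂ : ∀ A : CommAlgCat.{u} R, (pt R (A : Type u) ⟶ X₂) ≃ Gr R M₂ k (A : Type u))
  (he₂ : ∀ (A B : CommAlgCat.{u} R) (φ : A ⟶ B) (g : pt R (A : Type u) ⟶ X₂) (g' : pt R (B : Type u) ⟶ X₂),
    g'.left = Sp φ.hom ≫ g.left → e₂ B g' = Grassmannian.map φ.hom (e₂ A g))

include he₁ he₂ in
theorem exists_comapHom :
    ∃ c : X₂ ⟶ X₁, ∀ (A : CommAlgCat.{u} R) (g : pt R (A : Type u) ⟶ X₂),
      e₁ A (g ≫ c) = comapPt v hv (e₂ A g) := by
  obtain ⟨c, hc⟩ := exists_hom (X := X₂) (Y := X₁)
    (fun A _ _ g => (e₁ (CommAlgCat.of R A)).symm (comapPt v hv (e₂ (CommAlgCat.of R A) g))) (by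
      intro A B _ _ _ _ φ g g' h
      let p : pt R B ⟶ pt R A := Over.homMk (Sp φ) (Sp_str φ)
      have key : p ≫ (e₁ (CommAlgCat.of R A)).symm (comapPt v hv (e₂ (CommAlgCat.of R A) g)) =
          (e₁ (CommAlgCat.of R B)).symm (comapPt v hv (e₂ (CommAlgCat.of R B) g')) := by
        apply (e₁ (CommAlgCat.of R B)).injective
        rw [Equiv.apply_symm_apply]
        refine (he₁ (CommAlgCat.of R A) (CommAlgCat.of R B) (CommAlgCat.ofHom φ) _ _ rfl).trans ?_
        rw [Equiv.apply_symm_apply, he₂ (CommAlgCat.of R A) (CommAlgCat.of R B) (CommAlgCat.ofHom φ) g g' h]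
        exact comapPt_map v hv φ _
      exact (congrArg CommaMorphism.left key).symm)
  refine ⟨c, fun A g => ?_⟩
  rw [hc]
  exact Equiv.apply_symm_apply _ _

include he₁ he₂ in
theorem isClosedImmersion_of_comap (c : X₂ ⟶ X₁)
    (hc : ∀ (A : CommAlgCat.{u} R) (g : pt R (A : Type u) ⟶ X₂), e₁ A (g ≫ c) = comapPt v hv (e₂ A g)) :
    IsClosedImmersion c.left := by
  haveI : Mono c.left := by
    refine ⟨fun {Z} a b hab => Z.affineOpenCover.openCover.hom_ext _ _ fun l => ?_⟩
    let i := Z.affineOpenCover.f l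
    obtain ⟨al, hal⟩ := exists_ptAlgebra (R := R) (i ≫ a ≫ X₂.hom)
    letI := al
    let ga : pt R (Z.affineOpenCover.X l) ⟶ X₂ := Over.homMk (i ≫ a) ((Category.assoc _ _ _).trans hal.symm)
    let gb : pt R (Z.affineOpenCover.X l) ⟶ X₂ := Over.homMk (i ≫ b) (by
      show (i ≫ b) ≫ X₂.hom = _
      rw [Category.assoc, ← Over.w c, ← reassoc_of% hab, Over.w c]
      exact hal.symm)
    have h : ga ≫ c = gb ≫ c := Over.OverMorphism.ext (by
      show (i ≫ a) ≫ c.left = (i ≫ b) ≫ c.left
      rw [Category.assoc, Category.assoc, hab])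
    have h2 := congrArg (e₁ (CommAlgCat.of R (Z.affineOpenCover.X l))) h
    rw [hc, hc] at h2
    exact congrArg CommaMorphism.left ((e₂ _).injective (comapPt_injective v hv h2))
  obtain ⟨𝒰⟩ : Nonempty (Scheme.AffineOpenCover.{u} X₁.left) := ⟨X₁.left.affineOpenCover⟩
  refine IsZariskiLocalAtTarget.of_openCover (P := @IsClosedImmersion) 𝒰.openCover fun i => ?_
  show IsClosedImmersion (pullback.snd c.left (𝒰.f i))
  obtain ⟨al, hal⟩ := exists_ptAlgebra (R := R) (𝒰.f i ≫ X₁.hom)
  letI := al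
  let A : CommRingCat.{u} := 𝒰.X i
  let g : pt R A ⟶ X₁ := Over.homMk (𝒰.f i) hal.symm
  let N := e₁ (CommAlgCat.of R A) g
  let J := killIdeal v N
  let ι : Spec (CommRingCat.of (A ⧸ J)) ⟶ Spec A := Sp (Ideal.Quotient.mkₐ R J)
  haveI : IsClosedImmersion ι := IsClosedImmersion.spec_of_surjective _ Ideal.Quotient.mk_surjective
  obtain ⟨N₂, hN₂⟩ := exists_comapPt_eq v hv (Ideal.Quotient.mkₐ R J) N (fun a ha => by
    rw [RingHom.mem_ker]
    exact Ideal.Quotient.eq_zero_iff_mem.mpr ha)
  let g₂ := (e₂ (CommAlgCat.of R (A ⧸ J))).symm N₂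
  have hg₂ : g₂.left ≫ c.left = ι ≫ 𝒰.f i := by
    have : g₂ ≫ c = (Over.homMk ι (Sp_str _) : pt R (A ⧸ J) ⟶ pt R A) ≫ g := by
      apply (e₁ (CommAlgCat.of R (A ⧸ J))).injective
      rw [hc, Equiv.apply_symm_apply, hN₂]
      exact (he₁ (CommAlgCat.of R A) (CommAlgCat.of R (A ⧸ J))
        (CommAlgCat.ofHom (Ideal.Quotient.mkₐ R J)) g _ rfl).symm
    exact congrArg CommaMorphism.left this
  let q := pullback.snd c.left (𝒰.f i)
  let t : Spec (CommRingCat.of (A ⧸ J)) ⟶ pullback c.left (𝒰.f i) := pullback.lift g₂.left ι hg₂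
  obtain ⟨𝒱⟩ : Nonempty (Scheme.AffineOpenCover.{u} (pullback c.left (𝒰.f i))) :=
    ⟨(pullback c.left (𝒰.f i)).affineOpenCover⟩
  have hloc : ∀ l, ∃ r : Spec (𝒱.X l) ⟶ Spec (CommRingCat.of (A ⧸ J)), r ≫ ι = 𝒱.f l ≫ q := by
    intro l
    obtain ⟨bl, hbl⟩ := exists_ptAlgebra (R := R) ((𝒱.f l ≫ q) ≫ Spec.map (CommRingCat.ofHom (algebraMap R A)))
    letI := bl
    obtain ⟨φ, hφ⟩ := exists_algHom (R := R) (A := A) (B := 𝒱.X l) (𝒱.f l ≫ q) hbl.symm
    let g' : pt R (𝒱.X l) ⟶ X₂ := Over.homMk (𝒱.f l ≫ pullback.fst c.left (𝒰.f i)) (by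
      show (𝒱.f l ≫ pullback.fst c.left (𝒰.f i)) ≫ X₂.hom = _
      rw [← Over.w c, Category.assoc, pullback.condition_assoc, ← hal]
      exact (Category.assoc _ _ _).symm.trans hbl.symm)
    have hker : killIdeal v N ≤ RingHom.ker φ.toRingHom := by
      refine map_eq_comapPt_imp v hv φ N (e₂ (CommAlgCat.of R (𝒱.X l)) g') ?_
      rw [← hc]
      refine (he₁ (CommAlgCat.of R A) (CommAlgCat.of R (𝒱.X l)) (CommAlgCat.ofHom φ) g (g' ≫ c) ?_).symm
      show (𝒱.f l ≫ pullback.fst c.left (𝒰.f i)) ≫ c.left = Sp φ ≫ 𝒰.f i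
      rw [hφ, Category.assoc, pullback.condition]
      exact (Category.assoc _ _ _).symm
    refine ⟨Sp (Ideal.Quotient.liftₐ J φ fun a ha => hker ha), ?_⟩
    rw [← hφ]
    show Sp _ ≫ Sp _ = _
    rw [← Sp_comp]
    rfl
  choose r hr using hloc
  let r' : pullback c.left (𝒰.f i) ⟶ Spec (CommRingCat.of (A ⧸ J)) := 𝒱.openCover.glueMorphisms r (fun l l' => by
    refine (cancel_mono ι).mp ?_
    refine (Category.assoc _ _ _).trans ((congrArg (_ ≫ ·) (hr l)).trans
      (Eq.trans ?_ ((Category.assoc _ _ _).trans (congrArg (_ ≫ ·) (hr l'))).symm))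
    refine (Category.assoc _ _ _).symm.trans (Eq.trans ?_ (Category.assoc _ _ _))
    exact congrArg (· ≫ q) pullback.condition)
  have hr' : r' ≫ ι = q := 𝒱.openCover.hom_ext _ _ fun l => by
    exact ((Category.assoc _ _ _).symm.trans (congrArg (· ≫ ι) (𝒱.openCover.ι_glueMorphisms r _ l))).trans (hr l)
  haveI : IsIso r' := by
    refine ⟨t, ?_, ?_⟩
    · rw [← cancel_mono q, Category.assoc, Category.id_comp]
      exact (congrArg (r' ≫ ·) (pullback.lift_snd _ _ _)).trans hr'
    · rw [← cancel_mono ι, Category.assoc, hr', Category.id_comp]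
      exact pullback.lift_snd _ _ _
  show IsClosedImmersion q
  rw [← hr']
  infer_instance

end Groth.Agent.Lib.GrassRep
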