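import Groth.Agent.Lib.ProjSpace.BaseChange

/-!
# Maps to standard charts of projective space given by coordinates
-/

universe u

open CategoryTheory CategoryTheory.Limits AlgebraicGeometry MvPolynomial HomogeneousLocalization

noncomputable section

namespace Groth.Agent.Lib.GrassRep.ProjCoord

open Groth.Agent.Lib.ProjSpace.Charts Groth.Agent.Lib.ProjSpace.Basic

variable {N : ℕ} {Z T : Type u} [CommRing Z] [CommRing T] (ρ : Z →+* T)

/-- `T_l / T_i ↦ v l / v i`. -/
def evalChart (i : Fin (N + 1)) (v : Fin (N + 1) → T) (hi : IsUnit (v i)) : AwayX Z i →+* T :=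
  (Localization.awayLift (eval₂Hom ρ v) (X i : MvPolynomial (Fin (N + 1)) Z)
    (by rw [eval₂Hom_X']; exact hi)).comp (algebraMap (AwayX Z i) _)

lemma evalChart_const (i : Fin (N + 1)) (v : Fin (N + 1) → T) (hi : IsUnit (v i)) (r : Z) :
    evalChart ρ i v hi (constHom Z i r) = ρ r := by
  simp [evalChart, HomogeneousLocalization.algebraMap_apply, val_constHom, Localization.awayLift,
    IsLocalization.Away.lift_eq]

lemma evalChart_coord (i l : Fin (N + 1)) (v : Fin (N + 1) → T) (hi : IsUnit (v i)) :
    v i * evalChart ρ i v hi (coord Z i l) = v l := by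
  simp only [evalChart, RingHom.comp_apply, HomogeneousLocalization.algebraMap_apply]
  set Φ := Localization.awayLift (eval₂Hom ρ v) (X i : MvPolynomial (Fin (N + 1)) Z)
    (by rw [eval₂Hom_X']; exact hi)
  have hΦ : ∀ a, Φ (algebraMap _ _ a) = eval₂Hom ρ v a := IsLocalization.Away.lift_eq _ _
  have := congrArg Φ (algebraMap_X_mul_val_coord (R := Z) i l)
  rw [map_mul, hΦ, hΦ, eval₂Hom_X', eval₂Hom_X'] at this
  exact this

lemma hom_ext {i : Fin (N + 1)} {f g : AwayX Z i →+* T} (hc : ∀ r, f (constHom Z i r) = g (constHom Z i r))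
    (hX : ∀ l, f (coord Z i l) = g (coord Z i l)) : f = g := by
  refine RingHom.ext fun a => ?_
  obtain ⟨p, rfl⟩ := fromPoly_surjective (R := Z) i a
  have : f.comp (fromPoly Z i) = g.comp (fromPoly Z i) :=
    MvPolynomial.ringHom_ext (fun r => by simp [fromPoly_C, hc]) (fun l => by simp [fromPoly_X, hX])
  exact RingHom.congr_fun this p

lemma evalChart_coord_of_eq_one (i l : Fin (N + 1)) (v : Fin (N + 1) → T) (hi : IsUnit (v i))
    (h1 : v i = 1) : evalChart ρ i v hi (coord Z i l) = v l := by
  have := evalChart_coord ρ i l v hi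
  rwa [h1, one_mul] at this

lemma comp_evalChart {T' : Type u} [CommRing T'] (φ : T →+* T') (i : Fin (N + 1)) (v : Fin (N + 1) → T)
    (hi : IsUnit (v i)) :
    φ.comp (evalChart ρ i v hi) = evalChart (φ.comp ρ) i (fun l => φ (v l)) (hi.map φ) := by
  refine hom_ext (fun r => ?_) fun l => ?_
  · rw [RingHom.comp_apply, evalChart_const, evalChart_const]
    rfl
  · refine (hi.map φ).mul_left_cancel ?_
    rw [RingHom.comp_apply, ← map_mul, evalChart_coord, evalChart_coord (φ.comp ρ) i l (fun l => φ (v l))]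

/-- The point given by a vector lands in `D₊(T_j)` through the chart of `i` if `v j` is a unit. -/
theorem evalChart_glue (i j : Fin (N + 1)) (v : Fin (N + 1) → T) (hi : IsUnit (v i)) (hj : IsUnit (v j)) :
    Spec.map (CommRingCat.ofHom (evalChart ρ i v hi)) ≫ awayχ Z i =
      Spec.map (CommRingCat.ofHom (evalChart ρ j v hj)) ≫ awayχ Z j := by
  let x : MvPolynomial (Fin (N + 1)) Z := X i * X j
  have hxu : IsUnit (eval₂Hom ρ v x) := by
    rw [map_mul, eval₂Hom_X', eval₂Hom_X']
    exact hi.mul hj
  let h : HomogeneousLocalization.Away (CohB1.polyGrading N Z) x →+* T :=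
    (Localization.awayLift (eval₂Hom ρ v) x hxu).comp (algebraMap _ _)
  have key : ∀ (a b : Fin (N + 1)) (ha : IsUnit (v a)) (hx : x = X a * X b),
      h.comp (awayMap (CohB1.polyGrading N Z) (X_mem_one b) hx) = evalChart ρ a v ha := by
    intro a b ha hx
    refine RingHom.ext fun z => ?_
    show Localization.awayLift (eval₂Hom ρ v) x hxu (algebraMap _ _ (awayMap _ _ hx z)) = _
    rw [HomogeneousLocalization.algebraMap_apply, val_awayMap]
    simp only [evalChart, RingHom.comp_apply, HomogeneousLocalization.algebraMap_apply]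
    simp only [← RingHom.comp_apply]
    refine RingHom.congr_fun ?_ z.val
    refine IsLocalization.ringHom_ext (Submonoid.powers (X a : MvPolynomial (Fin (N + 1)) Z)) (RingHom.ext fun p => ?_)
    simp only [RingHom.comp_apply, Localization.awayLift, IsLocalization.Away.lift_eq]
  have hij : x = X i * X j := rfl
  have hji : x = X j * X i := mul_comm _ _
  let ai := awayMap (CohB1.polyGrading N Z) (X_mem_one (R := Z) j) hij
  let aj := awayMap (CohB1.polyGrading N Z) (X_mem_one (R := Z) i) hji
  have e : Spec.map (CommRingCat.ofHom ai) ≫ Proj.awayι (CohB1.polyGrading N Z) (X i) (X_mem_one i) one_pos =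
      Spec.map (CommRingCat.ofHom aj) ≫ Proj.awayι (CohB1.polyGrading N Z) (X j) (X_mem_one j) one_pos :=
    (Proj.SpecMap_awayMap_awayι (𝒜 := CohB1.polyGrading N Z) (X_mem_one i) one_pos (X_mem_one j) hij).trans
      (Proj.SpecMap_awayMap_awayι (𝒜 := CohB1.polyGrading N Z) (X_mem_one j) one_pos (X_mem_one i) hji).symm
  rw [← key i j hi hij, ← key j i hj hji]
  show Spec.map (CommRingCat.ofHom ai ≫ CommRingCat.ofHom h) ≫
      Proj.awayι (CohB1.polyGrading N Z) (X i) (X_mem_one i) one_pos =
    Spec.map (CommRingCat.ofHom aj ≫ CommRingCat.ofHom h) ≫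
      Proj.awayι (CohB1.polyGrading N Z) (X j) (X_mem_one j) one_pos
  rw [Spec.map_comp, Spec.map_comp, Category.assoc, Category.assoc, e]

/-- The chart of `m` meets `D₊(T_l)` where the coordinate does not vanish. -/
theorem mem_preimage_awayχ (m l : Fin (N + 1)) (p : PrimeSpectrum (AwayX Z m)) :
    awayχ Z m p ∈ Proj.basicOpen (CohB1.polyGrading N Z) (X l : MvPolynomial (Fin (N + 1)) Z) ↔
      coord Z m l ∉ p.asIdeal := by
  refine Iff.trans (show _ ↔ p ∈ Proj.awayι (CohB1.polyGrading N Z) (X m) (X_mem_one m) one_pos ⁻¹ᵁ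
    Proj.basicOpen (CohB1.polyGrading N Z) (X l) from Iff.rfl) ?_
  rw [Proj.awayι_preimage_basicOpen (CohB1.polyGrading N Z) (X_mem_one m) one_pos (X_mem_one l) one_pos]
  rw [show Away.isLocalizationElem (X_mem_one (R := Z) m) (X_mem_one (R := Z) l) = coord Z m l from
    HomogeneousLocalization.val_injective _ (by
      simp [Away.isLocalizationElem, Away.mk, coord])]
  exact Iff.rfl

end Groth.Agent.Lib.GrassRep.ProjCoord
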