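import Groth.Agent.Lib.GrassRep.Standard
import Groth.Agent.Lib.GrassRep.Represent
import Groth.Agent.Lib.GrassRep.ProjCoord
import Mathlib.LinearAlgebra.Matrix.Adjugate
import Mathlib.AlgebraicGeometry.Morphisms.ClosedImmersion

/-!
# The Plücker embedding

`exists_plucker`: a scheme representing `G(q, R^n)` has a closed immersion into
`P^(C(n,q)-1)` over `Spec R`.
-/

universe u

open CategoryTheory Limits AlgebraicGeometry TensorProduct Module

namespace Groth.Agent.Lib.GrassRep

set_option linter.style.haveILetI false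

open Groth.Agent.Lib.ProjSpace.Basic Groth.Agent.Lib.ProjSpace.Charts

section Det

variable {R : Type u} [CommRing R] {M : Type u} [AddCommGroup M] [Module R M] {k : ℕ}
  {A : Type u} [CommRing A] [Algebra R A]

lemma mat_mul (N : Gr R M k A) {x y : Fin k → M} (hx : Gen N x) (hy : Gen N y) (z : Fin k → M) :
    mat N x hx z = mat N x hx y * mat N y hy z := by
  ext i j
  have : phi N x hx (z j) = ∑ l, phi N y hy (z j) l • phi N x hx (y l) := hx.bijective.1 (by
    rw [gen_phi, map_sum]
    simp only [map_smul, gen_phi]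
    rw [← gen_apply, gen_phi])
  simp [mat, Matrix.mul_apply, this, Finset.sum_apply, mul_comm]

lemma mat_self (N : Gr R M k A) {x : Fin k → M} (hx : Gen N x) : mat N x hx x = 1 := by
  ext i j
  simp [mat, phi_self, Matrix.one_apply, Pi.single_apply]

lemma mat_congr {N N' : Gr R M k A} (e : N = N') {x : Fin k → M} (h : Gen N x) (h' : Gen N' x)
    (y : Fin k → M) : mat N x h y = mat N' x h' y := by
  subst e
  rfl

lemma Gen.comp_equiv {N : Gr R M k A} {x : Fin k → M} (h : Gen N x) (e : Fin k ≃ Fin k) :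
    Gen N (x ∘ e) := fun q => by
  obtain ⟨c, rfl⟩ := h q
  refine ⟨c ∘ e, ?_⟩
  rw [gen_apply, gen_apply]
  exact Fintype.sum_equiv e _ _ fun i => rfl

end Det

variable {R : Type u} [CommRing R] {n q N : ℕ}

/-- Increasing `q`-tuples. -/
abbrev Sel (n q : ℕ) : Type := {I : Finset (Fin n) // I.card = q}

/-- The embedding of a selection. -/
noncomputable def emb (I : Sel n q) : Fin q ↪ Fin n := (I.1.orderEmbOfFin I.2).toEmbedding

lemma exists_perm (σ : Fin q ↪ Fin n) :
    ∃ (I : Sel n q) (e : Fin q ≃ Fin q), ∀ i, σ i = emb I (e i) := by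
  classical
  let I : Finset (Fin n) := Finset.univ.map σ
  have hI : I.card = q := by simp [I]
  let g : Fin q → Fin q := fun i => (I.orderIsoOfFin hI).symm ⟨σ i, Finset.mem_map_of_mem _ (Finset.mem_univ i)⟩
  have hg : Function.Injective g := fun a b h =>
    σ.injective (Subtype.ext_iff.mp ((I.orderIsoOfFin hI).symm.injective h))
  refine ⟨⟨I, hI⟩, Equiv.ofBijective g (Finite.injective_iff_bijective.mp hg), fun i => ?_⟩
  show σ i = I.orderEmbOfFin hI (g i)
  rw [← Finset.coe_orderIsoOfFin_apply I hI (g i), OrderIso.apply_symm_apply]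

variable (ε : Fin (N + 1) ≃ Sel n q)

/-- The tuple of a Plücker index. -/
noncomputable def tup (R : Type u) [CommRing R] (l : Fin (N + 1)) : Fin q → (Fin n → R) :=
  stdTuple R (emb (ε l))

/-- The chart of a Plücker index. -/
noncomputable abbrev Ul (R : Type u) [CommRing R] (l : Fin (N + 1)) : Idx (Fin n → R) q :=
  Idx.single (tup ε R l)

lemma gen_univ_tup (l : Fin (N + 1)) : Gen (univ R (Ul ε R l)).1 (tup ε R l) :=
  (univ R (Ul ε R l)).2 _ (Finset.mem_singleton_self _)

/-- The Plücker coordinates of a point in the chart `l`. -/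
noncomputable def pl {A : Type u} [CommRing A] [Algebra R A] (P : Gr R (Fin n → R) q A) (l : Fin (N + 1))
    (h : Gen P (tup ε R l)) (m : Fin (N + 1)) : A :=
  (mat P (tup ε R l) h (tup ε R m)).det

lemma pl_self {A : Type u} [CommRing A] [Algebra R A] (P : Gr R (Fin n → R) q A) (l : Fin (N + 1))
    (h : Gen P (tup ε R l)) : pl ε P l h l = 1 := by
  rw [pl, mat_self, Matrix.det_one]

/-- The vector of the universal point. -/
noncomputable def plU (l m : Fin (N + 1)) : Sr R (Ul ε R l) :=
  pl ε (univ R (Ul ε R l)).1 l (gen_univ_tup ε l) m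

lemma plU_self (l : Fin (N + 1)) : plU (R := R) ε l l = 1 := pl_self ε _ l _

lemma isUnit_plU (l : Fin (N + 1)) : IsUnit (plU (R := R) ε l l) := by
  rw [plU_self]
  exact isUnit_one

/-- The coordinate map on a chart. -/
noncomputable def evalU (l : Fin (N + 1)) : AwayX R l →+* Sr R (Ul ε R l) :=
  ProjCoord.evalChart (algebraMap R _) l (plU ε l) (isUnit_plU ε l)

/-- The map on a chart. -/
noncomputable def mapU (l : Fin (N + 1)) :
    Spec (CommRingCat.of (Sr R (Ul ε R l))) ⟶ CohB1.ProjSpace N R :=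
  Spec.map (CommRingCat.ofHom (evalU ε l)) ≫ awayχ R l

lemma evalChart_scale {T : Type u} [CommRing T] {Z : Type u} [CommRing Z] (ρ : Z →+* T) (j : Fin (N + 1))
    (v w : Fin (N + 1) → T) (hv : IsUnit (v j)) (hw : IsUnit (w j)) (c : T) (h : ∀ l, v l = c * w l) :
    ProjCoord.evalChart ρ j v hv = ProjCoord.evalChart ρ j w hw := by
  refine ProjCoord.hom_ext (fun r => by rw [ProjCoord.evalChart_const, ProjCoord.evalChart_const]) fun l => ?_
  refine hv.mul_left_cancel ?_
  rw [ProjCoord.evalChart_coord, h j, mul_assoc, ProjCoord.evalChart_coord, h l]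

lemma comp_evalU {C : Type u} [CommRing C] [Algebra R C] {l : Fin (N + 1)}
    (φ : Sr R (Ul ε R l) →ₐ[R] C) {P : Gr R (Fin n → R) q C}
    (hP : Grassmannian.map φ (univ R (Ul ε R l)).1 = P) (h : Gen P (tup ε R l))
    (hu : IsUnit (pl ε P l h l)) :
    φ.toRingHom.comp (evalU ε l) = ProjCoord.evalChart (algebraMap R C) l (pl ε P l h) hu := by
  subst hP
  refine ProjCoord.hom_ext (fun r => ?_) fun m => ?_
  · rw [RingHom.comp_apply, evalU, ProjCoord.evalChart_const, ProjCoord.evalChart_const]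
    exact φ.commutes r
  · rw [RingHom.comp_apply, evalU, ProjCoord.evalChart_coord_of_eq_one _ _ _ _ _ (plU_self ε l),
      ProjCoord.evalChart_coord_of_eq_one _ _ _ _ _ (pl_self ε _ l _)]
    exact (det_mat_map (gen_univ_tup ε l) φ _).symm

theorem mapU_eq {C : Type u} [CommRing C] [Algebra R C] {l m : Fin (N + 1)}
    (φ : Sr R (Ul ε R l) →ₐ[R] C) (ψ : Sr R (Ul ε R m) →ₐ[R] C)
    (h : Sp φ ≫ chart (Ul ε R l) = Sp ψ ≫ chart (Ul ε R m)) :
    Sp φ ≫ mapU ε l = Sp ψ ≫ mapU ε m := by
  have hφ : clsf (mapPts φ (univ R (Ul ε R l))) = φ := hom_ext (map_clsf _)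
  have hψ : clsf (mapPts ψ (univ R (Ul ε R m))) = ψ := hom_ext (map_clsf _)
  have hP : (mapPts φ (univ R (Ul ε R l))).1 = (mapPts ψ (univ R (Ul ε R m))).1 :=
    eq_of_clsf_chart_eq _ _ (by rw [hφ, hψ]; exact h)
  let P := (mapPts φ (univ R (Ul ε R l))).1
  have hl : Gen P (tup ε R l) := (gen_univ_tup ε l).map φ
  have hm : Gen P (tup ε R m) := by
    show Gen (mapPts φ (univ R (Ul ε R l))).1 (tup ε R m)
    rw [hP]
    exact (gen_univ_tup ε m).map ψ
  have hul : IsUnit (pl ε P l hl l) := by rw [pl_self]; exact isUnit_one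
  have hum : IsUnit (pl ε P m hm m) := by rw [pl_self]; exact isUnit_one
  have hulm : IsUnit (pl ε P l hl m) := (gen_iff_isUnit_det hl _).mp hm
  show Spec.map (CommRingCat.ofHom φ.toRingHom) ≫ Spec.map (CommRingCat.ofHom (evalU ε l)) ≫ awayχ R l =
    Spec.map (CommRingCat.ofHom ψ.toRingHom) ≫ Spec.map (CommRingCat.ofHom (evalU ε m)) ≫ awayχ R m
  rw [← Category.assoc, ← Category.assoc, ← Spec.map_comp, ← Spec.map_comp, ← CommRingCat.ofHom_comp,
    ← CommRingCat.ofHom_comp, comp_evalU ε φ (P := P) rfl hl hul, comp_evalU ε ψ (P := P) hP.symm hm hum,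
    ProjCoord.evalChart_glue _ l m (pl ε P l hl) hul hulm,
    evalChart_scale _ m _ _ hulm hum (pl ε P l hl m) (fun t => by
      rw [pl, pl, pl, ← Matrix.det_mul, ← mat_mul])]

theorem iSup_chart_tup :
    ∀ y : carrier R (Fin n → R) q, ∃ l : Fin (N + 1), y ∈ Set.range (chart (R := R) (Ul ε R l)) := by
  intro y
  obtain ⟨σ, z, hz⟩ := TopologicalSpace.Opens.mem_iSup.mp
    ((iSup_chart_std (R := R) (n := n) (k := q)).ge (show y ∈ (⊤ : TopologicalSpace.Opens _) from trivial))
  obtain ⟨I, e, he⟩ := exists_perm σ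
  let l := ε.symm I
  let s := Idx.single (stdTuple R σ)
  have htup : tup ε R l = stdTuple R σ ∘ e.symm := funext fun i => by
    show stdTuple R (emb (ε (ε.symm I))) i = stdTuple R σ (e.symm i)
    rw [Equiv.apply_symm_apply, stdTuple, stdTuple, he, Equiv.apply_symm_apply]
  have h : Gen (univ R s).1 (tup ε R l) := htup ▸
    ((univ R s).2 _ (Finset.mem_singleton_self _)).comp_equiv e.symm
  have h2 := clsf_chart_eq (univ R s) (Pts.single h) rfl
  rw [show clsf (univ R s) = AlgHom.id R _ from hom_ext (by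
    rw [map_clsf]; exact (Grassmannian.map_id q (CommAlgCat.of R (Sr R s)) _).symm)] at h2
  refine ⟨l, Sp (clsf (Pts.single h)) z, ?_⟩
  rw [← hz]
  refine (congrArg (fun f => (f : _ ⟶ carrier R (Fin n → R) q) z) h2).symm.trans ?_
  show chart s (Sp (AlgHom.id R (Sr R s)) z) = chart s z
  rw [show Sp (AlgHom.id R (Sr R s)) = 𝟙 _ from Spec.map_id _]
  rfl

/-- The covering by the Plücker charts. -/
noncomputable def plCover : (carrier R (Fin n → R) q).OpenCover :=
  Scheme.Cover.mkOfCovers (P := @IsOpenImmersion) (Fin (N + 1)) _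
    (fun l => chart (R := R) (Ul ε R l)) (fun y => by
      obtain ⟨l, z, hz⟩ := iSup_chart_tup ε y
      exact ⟨l, z, hz⟩) (fun _ => inferInstance)

theorem exists_pluckerMap :
    ∃ r : carrier R (Fin n → R) q ⟶ CohB1.ProjSpace N R,
      (∀ l, chart (Ul ε R l) ≫ r = mapU ε l) ∧ r ≫ CohB1.ProjSpace.toSpec N R = str R (Fin n → R) q := by
  have hc : ∀ l m, pullback.fst ((plCover (R := R) ε).f l) ((plCover (R := R) ε).f m) ≫ mapU ε l =
      pullback.snd ((plCover (R := R) ε).f l) ((plCover (R := R) ε).f m) ≫ mapU ε m := by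
    intro l m
    let W := pullback ((plCover (R := R) ε).f l) ((plCover (R := R) ε).f m)
    obtain ⟨𝒲⟩ : Nonempty (Scheme.AffineOpenCover.{u} W) := ⟨W.affineOpenCover⟩
    refine 𝒲.openCover.hom_ext _ _ fun t => ?_
    let u : Spec (𝒲.X t) ⟶ W := 𝒲.f t
    let a : Spec (𝒲.X t) ⟶ Spec (CommRingCat.of (Sr R (Ul ε R l))) :=
      u ≫ pullback.fst _ _
    let b : Spec (𝒲.X t) ⟶ Spec (CommRingCat.of (Sr R (Ul ε R m))) :=
      u ≫ pullback.snd _ _
    have hab : a ≫ chart (Ul ε R l) = b ≫ chart (Ul ε R m) :=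
      (Category.assoc _ _ _).trans ((congrArg (u ≫ ·) pullback.condition).trans (Category.assoc _ _ _).symm)
    obtain ⟨al, hal⟩ := exists_ptAlgebra (R := R) (a ≫ chart (Ul ε R l) ≫ str R (Fin n → R) q)
    letI := al
    obtain ⟨φ, hφ⟩ := exists_algHom (R := R) a (by rw [hal, chart_str])
    obtain ⟨ψ, hψ⟩ := exists_algHom (R := R) b (by rw [hal, ← chart_str, reassoc_of% hab])
    have := mapU_eq ε φ ψ (by rw [hφ, hψ]; exact hab)
    rw [hφ, hψ] at this
    exact (Category.assoc _ _ _).symm.trans (this.trans (Category.assoc _ _ _))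
  refine ⟨(plCover ε).glueMorphisms (mapU ε) hc, fun l => (plCover ε).ι_glueMorphisms _ hc l, ?_⟩
  refine (plCover ε).hom_ext _ _ fun l => ?_
  refine ((plCover ε).ι_glueMorphisms_assoc _ hc l _).trans ?_
  show (Spec.map _ ≫ awayχ R l) ≫ _ = chart (Ul ε R l) ≫ str R _ q
  rw [Category.assoc, awayχ_toSpec, chart_str, ← Spec.map_comp, ← CommRingCat.ofHom_comp]
  congr 2
  exact RingHom.ext fun r => ProjCoord.evalChart_const _ _ _ (isUnit_plU ε l) r

theorem surjective_evalU (l : Fin (N + 1)) : Function.Surjective (evalU (R := R) ε l) := by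
  let σ := emb (ε l)
  intro z
  obtain ⟨p, rfl⟩ := (chartRingEquiv (R := R) σ).surjective z
  have hX : ∀ x : Free σ, ∃ a, evalU (R := R) ε l a = chartRingEquiv (R := R) σ (MvPolynomial.X x) := by
    rintro ⟨i, ⟨j, hj⟩⟩
    let τ : Fin q → Fin n := Function.update σ i j
    have hτ : Function.Injective τ := by
      intro a b hab
      by_cases ha : a = i <;> by_cases hb : b = i
      · rw [ha, hb]
      · subst ha; simp [τ, hb] at hab; exact absurd ⟨b, hab.symm⟩ hj
      · subst hb; simp [τ, ha] at hab; exact absurd ⟨a, hab⟩ hj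
      · simp [τ, ha, hb] at hab; exact hab
    obtain ⟨I, e, he⟩ := exists_perm ⟨τ, hτ⟩
    let m := ε.symm I
    let P := (univ R (Ul ε R l)).1
    let hP := gen_univ_tup (R := R) ε l
    have hmat : mat P (tup ε R l) hP (stdTuple R τ) =
        (1 : Matrix (Fin q) (Fin q) _).updateCol i (phi P (tup ε R l) hP (Pi.single j 1)) := by
      ext a b
      by_cases hb : b = i
      · subst hb
        simp [mat, stdTuple, τ]
      · rw [Matrix.updateCol_ne hb]
        show phi P (tup ε R l) hP (stdTuple R τ b) a = _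
        rw [show stdTuple R τ b = tup ε R l b by simp [stdTuple, τ, hb, tup, σ]]
        rw [phi_self]
        simp [Matrix.one_apply, Pi.single_apply]
    have hdet : phi P (tup ε R l) hP (Pi.single j 1) i = ↑↑(Equiv.Perm.sign e) * plU ε l m := by
      have h1 : (mat P (tup ε R l) hP (stdTuple R τ)).det = phi P (tup ε R l) hP (Pi.single j 1) i := by
        rw [hmat, ← Matrix.cramer_apply, Matrix.cramer_one]
        rfl
      rw [← h1, plU, pl, ← Matrix.det_permute']
      congr 1
      ext a b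
      have : stdTuple R τ b = tup ε R m (e b) := by
        show (Pi.single (τ b) 1 : Fin n → R) = Pi.single (emb (ε (ε.symm I)) (e b)) 1
        rw [Equiv.apply_symm_apply, ← he]
        rfl
      simp [mat, this, P]
    refine ⟨((Equiv.Perm.sign e : ℤˣ) : ℤ) • ProjSpace.Charts.coord R l m, ?_⟩
    refine (map_zsmul (evalU ε l) _ _).trans (Eq.trans ?_ (MvPolynomial.aeval_X _ _).symm)
    rw [evalU, ProjCoord.evalChart_coord_of_eq_one _ _ _ _ _ (plU_self ε l), zsmul_eq_mul]
    exact hdet.symm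
  induction p using MvPolynomial.induction_on with
  | C r => exact ⟨constHom R l r, (ProjCoord.evalChart_const _ _ _ _ r).trans
      ((chartRingEquiv (R := R) σ).toAlgHom.commutes r).symm⟩
  | add a b ha hb =>
    obtain ⟨a', ha⟩ := ha
    obtain ⟨b', hb⟩ := hb
    exact ⟨a' + b', (map_add (evalU ε l) _ _).trans
      ((congrArg₂ (· + ·) ha hb).trans (map_add (chartRingEquiv (R := R) σ) _ _).symm)⟩
  | mul_X a x ha =>
    obtain ⟨a', ha⟩ := ha
    obtain ⟨c, hc⟩ := hX x
    exact ⟨a' * c, (map_mul (evalU ε l) _ _).trans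
      ((congrArg₂ (· * ·) ha hc).trans (map_mul (chartRingEquiv (R := R) σ) _ _).symm)⟩

theorem isClosedImmersion_pluckerMap (r : carrier R (Fin n → R) q ⟶ CohB1.ProjSpace N R)
    (hr : ∀ l, chart (Ul ε R l) ≫ r = mapU ε l) : IsClosedImmersion r := by
  let 𝒱 : (CohB1.ProjSpace N R).OpenCover :=
    Scheme.Cover.mkOfCovers (P := @IsOpenImmersion) (Fin (N + 1)) _ (fun l => awayχ R l) (fun y => by
      obtain ⟨i, hi⟩ := exists_mem_opensRange_chartι N R y
      rw [opensRange_chartι, ← opensRange_awayχ] at hi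
      exact ⟨i, hi⟩) (fun _ => inferInstance)
  refine IsZariskiLocalAtTarget.of_openCover (P := @IsClosedImmersion) 𝒱 fun (l : Fin (N + 1)) => ?_
  show IsClosedImmersion (pullback.snd r (awayχ R l))
  haveI : IsClosedImmersion (Spec.map (CommRingCat.ofHom (evalU (R := R) ε l))) :=
    IsClosedImmersion.spec_of_surjective _ (surjective_evalU ε l)
  haveI : IsOpenImmersion (pullback.fst r (awayχ R l)) := inferInstance
  have hrange : Set.range (pullback.fst r (awayχ R l)) ⊆ Set.range (chart (R := R) (Ul ε R l)) := by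
    rintro _ ⟨w, rfl⟩
    obtain ⟨m, z, hz⟩ := iSup_chart_tup ε (pullback.fst r (awayχ R l) w)
    have hw : r (pullback.fst r (awayχ R l) w) ∈ Proj.basicOpen (CohB1.polyGrading N R) (MvPolynomial.X l) := by
      rw [← opensRange_awayχ]
      exact ⟨pullback.snd r (awayχ R l) w,
        (congrArg (fun f => (f : _ ⟶ CohB1.ProjSpace N R) w) pullback.condition).symm⟩
    rw [← hz] at hw ⊢
    let p : PrimeSpectrum (Sr R (Ul ε R m)) := z
    have hw' : mapU ε m z ∈ Proj.basicOpen (CohB1.polyGrading N R) (MvPolynomial.X l) := by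
      rw [← hr m]
      exact hw
    have hw'' := (ProjCoord.mem_preimage_awayχ (Z := R) m l (PrimeSpectrum.comap (evalU ε m) p)).mp hw'
    rw [PrimeSpectrum.comap_asIdeal, Ideal.mem_comap, evalU,
      ProjCoord.evalChart_coord_of_eq_one _ _ _ _ _ (plU_self ε m)] at hw''
    let K := p.asIdeal.ResidueField
    let f : Sr R (Ul ε R m) →ₐ[R] K := IsScalarTower.toAlgHom R _ _
    let P := mapPts f (univ R (Ul ε R m))
    have hgen : Gen P.1 (tup ε R l) := by
      show Gen (Grassmannian.map f (univ R (Ul ε R m)).1) (tup ε R l)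
      rw [gen_iff_isUnit_det ((gen_univ_tup ε m).map f), det_mat_map (gen_univ_tup ε m),
        isUnit_iff_ne_zero]
      exact fun h => hw'' (Ideal.algebraMap_residueField_eq_zero.mp h)
    have h := clsf_chart_eq (Pts.single hgen) P rfl
    rw [show clsf P = f from hom_ext (map_clsf _)] at h
    refine ⟨Sp (clsf (Pts.single hgen)) (⊥ : PrimeSpectrum K), ?_⟩
    show (Sp (clsf (Pts.single hgen)) ≫ chart _) (⊥ : PrimeSpectrum K) = _
    rw [h]
    show chart _ (Sp f (⊥ : PrimeSpectrum K)) = chart _ z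
    refine congrArg _ (PrimeSpectrum.ext ?_)
    exact Ideal.ker_algebraMap_residueField p.asIdeal
  let u := IsOpenImmersion.lift (chart (R := R) (Ul ε R l)) (pullback.fst r (awayχ R l)) hrange
  have hu : u ≫ chart _ = pullback.fst r (awayχ R l) := IsOpenImmersion.lift_fac _ _ _
  let t : Spec (CommRingCat.of (Sr R (Ul ε R l))) ⟶ pullback r (awayχ R l) :=
    pullback.lift (chart _) (Spec.map (CommRingCat.ofHom (evalU ε l))) (hr l)
  haveI : IsIso u := by
    refine ⟨t, ?_, ?_⟩
    · rw [← cancel_mono (pullback.fst r (awayχ R l)), Category.assoc, Category.id_comp, pullback.lift_fst,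
        hu]
    · rw [← cancel_mono (chart (R := R) (Ul ε R l)), Category.assoc, Category.id_comp, hu,
        pullback.lift_fst]
  have hq : pullback.snd r (awayχ R l) = u ≫ Spec.map (CommRingCat.ofHom (evalU ε l)) := by
    rw [← cancel_mono (awayχ R l), ← pullback.condition, ← hu, Category.assoc, hr, Category.assoc]
    rfl
  rw [hq]
  infer_instance

omit ε in
/-- The Plücker embedding of a scheme representing `G(q, R^n)`. -/
theorem exists_plucker (hqn : q ≤ n) (X : Over (Spec (CommRingCat.of R)))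
    (e : ∀ A : CommAlgCat.{u} R, (pt R (A : Type u) ⟶ X) ≃ Gr R (Fin n → R) q (A : Type u))
    (he : ∀ (A B : CommAlgCat.{u} R) (φ : A ⟶ B) (g : pt R (A : Type u) ⟶ X) (g' : pt R (B : Type u) ⟶ X),
      g'.left = Sp φ.hom ≫ g.left → e B g' = Grassmannian.map φ.hom (e A g)) :
    ∃ c : X.left ⟶ CohB1.ProjSpaceOver (n.choose q - 1) (Spec (CommRingCat.of R)),
      IsClosedImmersion c ∧
        c ≫ CohB1.ProjSpaceOver.toBase (n.choose q - 1) (Spec (CommRingCat.of R)) = X.hom := by
  classical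
  have hcard : Fintype.card (Sel n q) = n.choose q - 1 + 1 := by
    rw [Nat.sub_add_cancel (Nat.choose_pos hqn), Fintype.card_finset_len, Fintype.card_fin]
  let ε : Fin (n.choose q - 1 + 1) ≃ Sel n q := (Fintype.equivFinOfCardEq hcard).symm
  obtain ⟨r, hr, hrs⟩ := exists_pluckerMap (R := R) ε
  haveI := isClosedImmersion_pluckerMap ε r hr
  obtain ⟨Φ, -⟩ := exists_iso_grass X e he
  let ψ : X.left ≅ carrier R (Fin n → R) q := (Over.forget _).mapIso Φ
  refine ⟨ψ.hom ≫ r ≫ (ProjSpace.BaseChange.overSpecIso _ R).inv, inferInstance, ?_⟩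
  rw [Category.assoc, Category.assoc, ProjSpace.BaseChange.overSpecIso_inv_toBase, hrs]
  exact Over.w Φ.hom

end Groth.Agent.Lib.GrassRep
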