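import Mathlib.RingTheory.Grassmannian
import Mathlib.RingTheory.LocalRing.Module
import Mathlib.RingTheory.Support
import Mathlib.RingTheory.Spectrum.Prime.FreeLocus
import Mathlib.LinearAlgebra.Matrix.NonsingularInverse
import Mathlib.RingTheory.Localization.Away.Basic
import Mathlib.RingTheory.LocalRing.ResidueField.Ideal

/-!
# Points of Grassmannians: frames

For `N ∈ G(k, A ⊗ M; A)` and `x : Fin k → M`:
* `Gen N x`: the images of the `x i` generate (hence form a basis of) the quotient;
* such points are the same as `φ : M → A^k` with `φ (x i) = e i` (`phi`, `ofPhi`);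
* `exists_gen_away`: every point has such frames locally.
-/

universe u

open TensorProduct Module

namespace Groth.Agent.Lib.GrassRep

set_option linter.style.haveILetI false

variable {R : Type u} [CommRing R] {M : Type u} [AddCommGroup M] [Module R M] {k : ℕ}
  {A B : Type u} [CommRing A] [Algebra R A] [CommRing B] [Algebra R B]

/-- `G(k, A ⊗ M; A)`. -/
abbrev Gr (R : Type u) [CommRing R] (M : Type u) [AddCommGroup M] [Module R M] (k : ℕ) (A : Type u)
    [CommRing A] [Algebra R A] : Type u := Module.Grassmannian A (A ⊗[R] M) k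

/-- `A ⊗ M → B ⊗ M`. -/
noncomputable abbrev push (M : Type u) [AddCommGroup M] [Module R M] (f : A →ₐ[R] B) :
    A ⊗[R] M →ₗ[R] B ⊗[R] M := f.toLinearMap.rTensor M

lemma push_smul (f : A →ₐ[R] B) (a : A) (z : A ⊗[R] M) : push M f (a • z) = f a • push M f z := by
  induction z using TensorProduct.induction_on with
  | zero => simp
  | add y z hy hz => simp only [smul_add, map_add, hy, hz]
  | tmul c m => simp [TensorProduct.smul_tmul']

theorem push_mem_map_iff (f : A →ₐ[R] B) (N : Gr R M k A) (z : A ⊗[R] M) :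
    letI := f.toAlgebra
    push M f z ∈ (Grassmannian.map f N).toSubmodule ↔
      (1 : B) ⊗ₜ[A] N.toSubmodule.mkQ z = (0 : B ⊗[A] ((A ⊗[R] M) ⧸ N.toSubmodule)) := by
  letI := f.toAlgebra
  haveI : IsScalarTower R A B := IsScalarTower.of_algebraMap_eq fun r => (f.commutes r).symm
  rw [Grassmannian.map_toSubmodule, LinearMap.mem_ker]
  have h : Grassmannian.baseChangeMkQ B N.toSubmodule (push M f z) = (1 : B) ⊗ₜ[A] N.toSubmodule.mkQ z := by
    induction z using TensorProduct.induction_on with
    | zero => simp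
    | add a b ha hb => simp only [map_add, TensorProduct.tmul_add, ha, hb]
    | tmul a m =>
      show (N.toSubmodule.mkQ.baseChange B)
        ((AlgebraTensorModule.cancelBaseChange R A B B M).symm (f a ⊗ₜ[R] m)) = _
      rw [AlgebraTensorModule.cancelBaseChange_symm_tmul, LinearMap.baseChange_tmul]
      have h1 : a ⊗ₜ[R] m = a • ((1 : A) ⊗ₜ[R] m) := by
        rw [TensorProduct.smul_tmul', smul_eq_mul, mul_one]
      rw [h1, map_smul, TensorProduct.tmul_smul, TensorProduct.smul_tmul']
      refine congrArg (· ⊗ₜ[A] _) ?_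
      rw [Algebra.smul_def, mul_one]
      rfl
  rw [h]

theorem push_mem_map (f : A →ₐ[R] B) (N : Gr R M k A) {z : A ⊗[R] M} (hz : z ∈ N.toSubmodule) :
    push M f z ∈ (Grassmannian.map f N).toSubmodule := by
  rw [push_mem_map_iff]
  letI := f.toAlgebra
  rw [Submodule.mkQ_apply, (Submodule.Quotient.mk_eq_zero _).mpr hz, TensorProduct.tmul_zero]

/-! ### Frames -/

/-- The class of `1 ⊗ m`. -/
noncomputable def cls (N : Gr R M k A) : M →ₗ[R] (A ⊗[R] M) ⧸ N.toSubmodule :=
  (N.toSubmodule.mkQ.restrictScalars R).comp (TensorProduct.mk R A M 1)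

lemma cls_apply (N : Gr R M k A) (m : M) : cls N m = N.toSubmodule.mkQ ((1 : A) ⊗ₜ[R] m) := rfl

/-- The map `A^k → Q` given by the tuple `x`. -/
noncomputable def gen (N : Gr R M k A) (x : Fin k → M) :
    (Fin k → A) →ₗ[A] (A ⊗[R] M) ⧸ N.toSubmodule :=
  Fintype.linearCombination A fun i => cls N (x i)

lemma gen_apply (N : Gr R M k A) (x : Fin k → M) (c : Fin k → A) :
    gen N x c = ∑ i, c i • cls N (x i) := Fintype.linearCombination_apply _ _ _

/-- The tuple `x` generates the quotient. -/
def Gen (N : Gr R M k A) (x : Fin k → M) : Prop := Function.Surjective (gen N x)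

theorem Gen.bijective {N : Gr R M k A} {x : Fin k → M} (h : Gen N x) :
    Function.Bijective (gen N x) := by
  refine ⟨?_, h⟩
  cases subsingleton_or_nontrivial A
  · intro a b _
    exact Subsingleton.elim a b
  obtain ⟨σ, hσ⟩ := Module.projective_lifting_property (gen N x) LinearMap.id h
  let K := LinearMap.ker (gen N x)
  have hex : Function.Exact K.subtype (gen N x) := LinearMap.exact_subtype_ker_map _
  let e : (Fin k → A) ≃ₗ[A] K × ((A ⊗[R] M) ⧸ N.toSubmodule) :=
    (hex.splitSurjectiveEquiv (Submodule.injective_subtype _) ⟨σ, hσ⟩).1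
  haveI : Module.Finite A (K × ((A ⊗[R] M) ⧸ N.toSubmodule)) := Module.Finite.equiv e
  haveI : Module.Finite A K :=
    Module.Finite.of_surjective (LinearMap.fst A K ((A ⊗[R] M) ⧸ N.toSubmodule)) LinearMap.fst_surjective
  haveI : Module.Projective A K :=
    haveI : Module.Projective A (K × ((A ⊗[R] M) ⧸ N.toSubmodule)) := Module.Projective.of_equiv e
    Module.Projective.of_split (LinearMap.inl A K ((A ⊗[R] M) ⧸ N.toSubmodule))
      (LinearMap.fst A K ((A ⊗[R] M) ⧸ N.toSubmodule)) (LinearMap.ext fun a => rfl)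
  have hK : rankAtStalk (R := A) K = 0 := funext fun p => by
    have h1 := congrFun (Module.rankAtStalk_eq_of_equiv e) p
    rw [Module.rankAtStalk_prod, Pi.add_apply, N.rankAtStalk_eq p,
      Module.rankAtStalk_eq_finrank_of_free] at h1
    simp at h1
    simpa using h1
  haveI := Module.rankAtStalk_eq_zero_iff_subsingleton.mp hK
  rw [← LinearMap.ker_eq_bot]
  exact Submodule.subsingleton_iff_eq_bot.mp ‹_›

/-- The coordinate map of a frame. -/
noncomputable def phi (N : Gr R M k A) (x : Fin k → M) (h : Gen N x) : M →ₗ[R] (Fin k → A) :=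
  ((LinearEquiv.ofBijective (gen N x) h.bijective).symm.toLinearMap.restrictScalars R).comp (cls N)

lemma gen_phi {N : Gr R M k A} {x : Fin k → M} (h : Gen N x) (m : M) :
    gen N x (phi N x h m) = cls N m :=
  (LinearEquiv.ofBijective (gen N x) h.bijective).apply_symm_apply _

lemma gen_single (N : Gr R M k A) (x : Fin k → M) (i : Fin k) :
    gen N x (Pi.single i 1) = cls N (x i) := by
  simp [gen, Fintype.linearCombination_apply_single]

lemma phi_self {N : Gr R M k A} {x : Fin k → M} (h : Gen N x) (i : Fin k) :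
    phi N x h (x i) = Pi.single i 1 :=
  h.bijective.1 (by rw [gen_phi, gen_single])

lemma phi_eq_iff {N : Gr R M k A} {x : Fin k → M} (h : Gen N x) (m : M) (c : Fin k → A) :
    phi N x h m = c ↔ (1 : A) ⊗ₜ[R] m - ∑ i, c i • ((1 : A) ⊗ₜ[R] x i) ∈ N.toSubmodule := by
  rw [← Submodule.Quotient.mk_eq_zero, ← Submodule.mkQ_apply, map_sub, map_sum, sub_eq_zero]
  simp only [map_smul, ← cls_apply, ← gen_apply]
  rw [← gen_phi h m, h.bijective.1.eq_iff]

/-- The coordinate maps of frames. -/
abbrev Phi (R : Type u) [CommRing R] {M : Type u} [AddCommGroup M] [Module R M] {k : ℕ}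
    (x : Fin k → M) (A : Type u) [CommRing A] [Algebra R A] : Type u :=
  {φ : M →ₗ[R] (Fin k → A) // ∀ i, φ (x i) = Pi.single i 1}

lemma Phi.surjective {x : Fin k → M} (φ : Phi R x A) :
    Function.Surjective (φ.1.liftBaseChange A) := fun c => by
  refine ⟨∑ i, c i • ((1 : A) ⊗ₜ[R] x i), ?_⟩
  simp only [map_sum, map_smul, LinearMap.liftBaseChange_tmul, one_smul, φ.2]
  exact (pi_eq_sum_univ' c).symm

/-- The point with coordinate map `φ`. -/
noncomputable def ofPhi {x : Fin k → M} (φ : Phi R x A) : Gr R M k A where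
  toSubmodule := LinearMap.ker (φ.1.liftBaseChange A)
  finite_quotient :=
    Module.Finite.equiv ((φ.1.liftBaseChange A).quotKerEquivOfSurjective φ.surjective).symm
  projective_quotient :=
    Module.Projective.of_equiv ((φ.1.liftBaseChange A).quotKerEquivOfSurjective φ.surjective).symm
  rankAtStalk_eq p := by
    haveI : Nontrivial A := p.nontrivial
    rw [congrFun (Module.rankAtStalk_eq_of_equiv
      ((φ.1.liftBaseChange A).quotKerEquivOfSurjective φ.surjective)) p,
      Module.rankAtStalk_eq_finrank_of_free]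
    simp

lemma gen_ofPhi {x : Fin k → M} (φ : Phi R x A) : Gen (ofPhi φ) x := fun q => by
  obtain ⟨z, rfl⟩ := Submodule.mkQ_surjective _ q
  refine ⟨φ.1.liftBaseChange A z, ?_⟩
  rw [gen_apply]
  simp only [cls_apply, ← map_smul, ← map_sum]
  rw [Submodule.mkQ_apply, Submodule.mkQ_apply]
  rw [Submodule.Quotient.eq]
  show _ ∈ LinearMap.ker _
  simp only [LinearMap.mem_ker, map_sub, map_sum, map_smul, LinearMap.liftBaseChange_tmul, one_smul,
    φ.2]
  rw [sub_eq_zero]
  exact (pi_eq_sum_univ' _).symm

lemma phi_ofPhi {x : Fin k → M} (φ : Phi R x A) (h : Gen (ofPhi φ) x) : phi (ofPhi φ) x h = φ.1 :=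
  LinearMap.ext fun m => (phi_eq_iff h m _).mpr <| by
    show _ ∈ LinearMap.ker _
    simp only [LinearMap.mem_ker, map_sub, map_sum, map_smul, LinearMap.liftBaseChange_tmul,
      one_smul, φ.2]
    rw [sub_eq_zero]
    exact pi_eq_sum_univ' _

/-- A frame as a coordinate map. -/
noncomputable def toPhi (N : Gr R M k A) (x : Fin k → M) (h : Gen N x) : Phi R x A :=
  ⟨phi N x h, phi_self h⟩

lemma ofPhi_toPhi {N : Gr R M k A} {x : Fin k → M} (h : Gen N x) : ofPhi (toPhi N x h) = N := by
  refine Grassmannian.ext (SetLike.ext fun z => ?_)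
  show (phi N x h).liftBaseChange A z = 0 ↔ _
  have key : ∀ w, gen N x ((phi N x h).liftBaseChange A w) = N.toSubmodule.mkQ w := fun w => by
    induction w using TensorProduct.induction_on with
    | zero => simp
    | add a b ha hb => simp only [map_add, ha, hb]
    | tmul a m =>
      rw [LinearMap.liftBaseChange_tmul, map_smul, gen_phi, cls_apply, ← map_smul,
        TensorProduct.smul_tmul', smul_eq_mul, mul_one]
  rw [← Submodule.Quotient.mk_eq_zero, ← Submodule.mkQ_apply, ← key, map_eq_zero_iff _ h.bijective.1]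

lemma Gen.ext {N N' : Gr R M k A} {x : Fin k → M} (h : Gen N x) (h' : Gen N' x)
    (e : phi N x h = phi N' x h') : N = N' := by
  rw [← ofPhi_toPhi h, ← ofPhi_toPhi h']
  exact congrArg ofPhi (Subtype.ext e)

/-! ### Base change -/

lemma Gen.map {N : Gr R M k A} {x : Fin k → M} (h : Gen N x) (f : A →ₐ[R] B) :
    Gen (Grassmannian.map f N) x := by
  intro q
  obtain ⟨w, rfl⟩ := Submodule.mkQ_surjective _ q
  induction w using TensorProduct.induction_on with
  | zero => exact ⟨0, by simp⟩
  | add a b ha hb =>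
    obtain ⟨c, hc⟩ := ha
    obtain ⟨d, hd⟩ := hb
    exact ⟨c + d, by rw [map_add, map_add, hc, hd]⟩
  | tmul b m =>
    refine ⟨b • fun i => f (phi N x h m i), ?_⟩
    rw [gen_apply]
    have h0 := push_mem_map f N ((phi_eq_iff h m _).mp rfl)
    simp only [map_sub, map_sum, push_smul] at h0
    rw [show b ⊗ₜ[R] m = b • ((1 : B) ⊗ₜ[R] m) by rw [TensorProduct.smul_tmul', smul_eq_mul, mul_one],
      map_smul]
    simp only [cls_apply, Pi.smul_apply, smul_assoc, ← Finset.smul_sum]
    refine congrArg (b • ·) ?_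
    simp only [← map_smul, ← map_sum]
    rw [Submodule.mkQ_apply, Submodule.mkQ_apply]
    refine ((Submodule.Quotient.eq _).mpr ?_).symm
    simpa [push] using h0

lemma phi_map {N : Gr R M k A} {x : Fin k → M} (h : Gen N x) (f : A →ₐ[R] B) (m : M) (i : Fin k) :
    phi (Grassmannian.map f N) x (h.map f) m i = f (phi N x h m i) := by
  refine congrFun ((phi_eq_iff (h.map f) m (fun i => f (phi N x h m i))).mpr ?_) i
  have h0 := push_mem_map f N ((phi_eq_iff h m _).mp rfl)
  simp only [map_sub, map_sum, push_smul] at h0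
  simpa [push] using h0

/-- The change of frame matrix. -/
noncomputable def mat (N : Gr R M k A) (x : Fin k → M) (h : Gen N x) (y : Fin k → M) :
    Matrix (Fin k) (Fin k) A := Matrix.of fun i j => phi N x h (y j) i

theorem gen_iff_isUnit_det {N : Gr R M k A} {x : Fin k → M} (h : Gen N x) (y : Fin k → M) :
    Gen N y ↔ IsUnit (mat N x h y).det := by
  rw [← Matrix.isUnit_iff_isUnit_det, ← Matrix.mulVec_surjective_iff_isUnit]
  have key : ⇑(gen N y) = ⇑(gen N x) ∘ (mat N x h y).mulVec := funext fun c => by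
    have h1 : (mat N x h y).mulVec c = ∑ j, c j • phi N x h (y j) := by
      funext i
      simp [mat, Matrix.mulVec, dotProduct, Finset.sum_apply, mul_comm]
    rw [Function.comp_apply, h1, map_sum, gen_apply]
    simp only [map_smul, gen_phi]
  unfold Gen
  rw [key]
  exact Function.Surjective.of_comp_iff' h.bijective _

/-! ### Existence of frames -/

theorem exists_gen_away (N : Gr R M k A) (p : PrimeSpectrum A) :
    ∃ (x : Fin k → M) (a : A), a ∉ p.asIdeal ∧
      ∀ (B : Type u) [CommRing B] [Algebra R B] (f : A →ₐ[R] B),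
        IsUnit (f a) → Gen (Grassmannian.map f N) x := by
  let κ := p.asIdeal.ResidueField
  let Q := (A ⊗[R] M) ⧸ N.toSubmodule
  let v : M → κ ⊗[A] Q := fun m => (1 : κ) ⊗ₜ[A] cls N m
  have hspan : Submodule.span κ (Set.range v) = ⊤ := by
    rw [eq_top_iff]
    rintro z -
    induction z using TensorProduct.induction_on with
    | zero => exact zero_mem _
    | add a b ha hb => exact add_mem ha hb
    | tmul c q =>
      obtain ⟨w, rfl⟩ := Submodule.mkQ_surjective _ q
      induction w using TensorProduct.induction_on with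
      | zero => simp
      | add a b ha hb => rw [map_add, TensorProduct.tmul_add]; exact add_mem ha hb
      | tmul a m =>
        rw [show a ⊗ₜ[R] m = a • ((1 : A) ⊗ₜ[R] m) by rw [TensorProduct.smul_tmul', smul_eq_mul, mul_one],
          map_smul, TensorProduct.tmul_smul, TensorProduct.smul_tmul',
          show (a • c) ⊗ₜ[A] N.toSubmodule.mkQ ((1 : A) ⊗ₜ[R] m) = (a • c) • v m by
            simp [v, TensorProduct.smul_tmul', cls_apply]]
        exact Submodule.smul_mem _ _ (Submodule.subset_span ⟨m, rfl⟩)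
  have hdim : Module.finrank κ (κ ⊗[A] Q) = k := by
    rw [← Module.rankAtStalk_eq]
    exact N.rankAtStalk_eq p
  obtain ⟨t, ht, htspan, hli⟩ := exists_linearIndependent κ (Set.range v)
  rw [hspan] at htspan
  let b : Basis t κ (κ ⊗[A] Q) := Basis.mk hli (by rw [Subtype.range_coe_subtype]; exact htspan.ge)
  haveI : Fintype t := FiniteDimensional.fintypeBasisIndex b
  have hcard : Fintype.card t = k := (Module.finrank_eq_card_basis b).symm.trans hdim
  let e : Fin k ≃ t := (Fintype.equivFinOfCardEq hcard).symm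
  choose x hx using fun i => ht (e i).2
  let C := Q ⧸ LinearMap.range (gen N x)
  have hC : p ∉ Module.support A C := by
    rw [Module.mem_support_iff_nontrivial_residueField_tensorProduct, not_nontrivial_iff_subsingleton]
    refine subsingleton_of_forall_eq 0 fun z => ?_
    obtain ⟨w, rfl⟩ := LinearMap.lTensor_surjective κ (Submodule.mkQ_surjective (LinearMap.range (gen N x))) z
    let π := (LinearMap.range (gen N x)).mkQ.baseChange κ
    show π w = 0
    rw [← b.sum_repr w, map_sum]
    refine Finset.sum_eq_zero fun i _ => ?_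
    obtain ⟨j, rfl⟩ := e.surjective i
    have hbi : b (e j) = v (x j) := by rw [Basis.mk_apply, hx]
    rw [map_smul, hbi]
    show _ • ((1 : κ) ⊗ₜ[A] (LinearMap.range (gen N x)).mkQ (cls N (x j))) = 0
    have hmem : cls N (x j) ∈ LinearMap.range (gen N x) := ⟨_, gen_single N x j⟩
    rw [Submodule.mkQ_apply, (Submodule.Quotient.mk_eq_zero _).mpr hmem,
      TensorProduct.tmul_zero, smul_zero]
  rw [Module.support_eq_zeroLocus, PrimeSpectrum.mem_zeroLocus, Set.not_subset] at hC
  obtain ⟨a, ha, hap⟩ := hC
  refine ⟨x, a, hap, fun B _ _ f hf q => ?_⟩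
  obtain ⟨w, rfl⟩ := Submodule.mkQ_surjective _ q
  induction w using TensorProduct.induction_on with
  | zero => exact ⟨0, by simp⟩
  | add z z' hz hz' =>
    obtain ⟨c, hc⟩ := hz
    obtain ⟨d, hd⟩ := hz'
    exact ⟨c + d, by rw [map_add, map_add, hc, hd]⟩
  | tmul r m =>
    have h1 : a • (Submodule.Quotient.mk (cls N m) : C) = 0 :=
      Module.mem_annihilator.mp ha _
    rw [← Submodule.Quotient.mk_smul, Submodule.Quotient.mk_eq_zero] at h1
    obtain ⟨c, hc⟩ := h1
    have h2 : a • ((1 : A) ⊗ₜ[R] m) - ∑ i, c i • ((1 : A) ⊗ₜ[R] x i) ∈ N.toSubmodule := by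
      rw [← Submodule.Quotient.mk_eq_zero, ← Submodule.mkQ_apply, map_sub, map_sum, sub_eq_zero]
      simp only [map_smul, ← cls_apply, ← gen_apply]
      exact hc.symm
    have h3 := push_mem_map f N h2
    simp only [map_sub, map_sum, push_smul] at h3
    obtain ⟨u, hu⟩ := hf.exists_right_inv
    refine ⟨fun i => r * u * f (c i), ?_⟩
    rw [gen_apply]
    simp only [cls_apply, ← map_smul, ← map_sum]
    rw [Submodule.mkQ_apply, Submodule.mkQ_apply]
    refine ((Submodule.Quotient.eq _).mpr ?_).symm
    have h4 := Submodule.smul_mem _ (r * u) h3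
    simp only [push, LinearMap.rTensor_tmul, AlgHom.toLinearMap_apply, map_one, smul_sub,
      Finset.smul_sum, smul_smul] at h4
    rw [show r * u * f a = r * (f a * u) by ring, hu, mul_one, TensorProduct.smul_tmul',
      smul_eq_mul, mul_one] at h4
    exact h4

end Groth.Agent.Lib.GrassRep
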