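import Groth.Prelude.Def_GrassD

/-!
# Base change of quotients: composition, naturality
-/

set_option autoImplicit false
universe u

open CategoryTheory Limits AlgebraicGeometry

namespace Groth.Agent.Lib.GrassRep.QuotBC

noncomputable section

local notation "pb" => Scheme.Modules.pullback

variable {X G T T' : Scheme.{u}} {π : G ⟶ X} {E : X.Modules} {Q : G.Modules}

/-- The identification `g^* E ≅ h^* π^* E`. -/
abbrev unfoldIso {h : T ⟶ G} {g : T ⟶ X} (hg : h ≫ π = g) (E : X.Modules) :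
    (pb g).obj E ⟶ (pb h).obj ((pb π).obj E) :=
  (Scheme.Modules.pullbackCongr hg).inv.app E ≫ (Scheme.Modules.pullbackComp h π).inv.app E

lemma quotBC_eq {h : T ⟶ G} {g : T ⟶ X} (hg : h ≫ π = g) (q : (pb π).obj E ⟶ Q) :
    Grass.quotBC hg q = unfoldIso hg E ≫ (pb h).map q :=
  (Category.assoc _ _ _).symm

lemma unfoldIso_natural {h : T ⟶ G} {g : T ⟶ X} (hg : h ≫ π = g) {E' : X.Modules} (v : E ⟶ E') :
    (pb g).map v ≫ unfoldIso hg E' = unfoldIso hg E ≫ (pb h).map ((pb π).map v) := by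
  rw [Category.assoc, ← Category.assoc ((pb g).map v)]
  erw [(Scheme.Modules.pullbackCongr hg).inv.naturality v, Category.assoc,
    (Scheme.Modules.pullbackComp h π).inv.naturality v]
  rfl

lemma quotBC_map {h : T ⟶ G} {g : T ⟶ X} (hg : h ≫ π = g) {E' : X.Modules} (v : E' ⟶ E)
    (q : (pb π).obj E ⟶ Q) :
    Grass.quotBC hg ((pb π).map v ≫ q) = (pb g).map v ≫ Grass.quotBC hg q := by
  rw [quotBC_eq, quotBC_eq, Functor.map_comp, ← Category.assoc, ← Category.assoc, unfoldIso_natural]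

lemma assoc_app (k : T' ⟶ T) (h : T ⟶ G) (e : (k ≫ h) ≫ π = k ≫ h ≫ π) (E : X.Modules) :
    (Scheme.Modules.pullbackComp k (h ≫ π)).inv.app E ≫
        (pb k).map ((Scheme.Modules.pullbackComp h π).inv.app E) ≫
          (Scheme.Modules.pullbackComp k h).hom.app ((pb π).obj E) =
      (Scheme.Modules.pullbackCongr e).inv.app E ≫
        (Scheme.Modules.pullbackComp (k ≫ h) π).inv.app E := by
  have h0 := congr($(Scheme.Modules.pseudofunctor_associativity k h π).app E)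
  simp only [NatTrans.comp_app, Functor.whiskerRight_app, Functor.whiskerLeft_app,
    Functor.associator_hom_app, eqToHom_app] at h0
  erw [Category.id_comp] at h0
  have hc : (Scheme.Modules.pullbackCongr e).inv.app E =
      eqToHom (by rw [e]) := by
    simp [Scheme.Modules.pullbackCongr, eqToIso.inv, eqToHom_app]
  rw [hc, ← cancel_mono ((Scheme.Modules.pullbackComp (k ≫ h) π).hom.app E)]
  simp only [Category.assoc, Iso.inv_hom_id_app]
  erw [Category.comp_id]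
  exact h0

/-- Composition: `k^*` of a base change is the base change along the composite. -/
theorem quotBC_comp (k : T' ⟶ T) {h : T ⟶ G} {g : T ⟶ X} (hg : h ≫ π = g)
    (hg' : (k ≫ h) ≫ π = k ≫ g) (q : (pb π).obj E ⟶ Q) :
    Grass.quotBC hg' q ≫ (Scheme.Modules.pullbackComp k h).inv.app Q =
      (Scheme.Modules.pullbackComp k g).inv.app E ≫ (pb k).map (Grass.quotBC hg q) := by
  subst hg
  have hcongr : (Scheme.Modules.pullbackCongr (rfl : h ≫ π = h ≫ π)).inv.app E = 𝟙 _ := by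
    simp [Scheme.Modules.pullbackCongr]
  rw [quotBC_eq, quotBC_eq, unfoldIso, unfoldIso, hcongr, Category.id_comp, Functor.map_comp,
    ← assoc_app k h hg' E, Category.assoc, Category.assoc, Category.assoc]
  congr 1
  congr 1
  erw [(Scheme.Modules.pullbackComp k h).inv.naturality q]
  rw [← Category.assoc, Iso.hom_inv_id_app]
  exact Category.id_comp _

/-- `s` is the base change of `q` along `h`. -/
def Rel {h : T ⟶ G} {g : T ⟶ X} (hg : h ≫ π = g) (q : (pb π).obj E ⟶ Q) {L : T.Modules}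
    (s : (pb g).obj E ⟶ L) : Prop :=
  ∃ e : (pb h).obj Q ≅ L, Grass.quotBC hg q ≫ e.hom = s

lemma rel_rfl {h : T ⟶ G} {g : T ⟶ X} (hg : h ≫ π = g) (q : (pb π).obj E ⟶ Q) :
    Rel hg q (Grass.quotBC hg q) :=
  ⟨Iso.refl _, Category.comp_id _⟩

lemma Rel.of_iso {h : T ⟶ G} {g : T ⟶ X} {hg : h ≫ π = g} {q : (pb π).obj E ⟶ Q} {L L' : T.Modules}
    {s : (pb g).obj E ⟶ L} (hs : Rel hg q s) (e' : L ≅ L') : Rel hg q (s ≫ e'.hom) := by
  obtain ⟨e, he⟩ := hs
  exact ⟨e ≪≫ e', by rw [Iso.trans_hom, ← Category.assoc, he]⟩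

/-- The pullback of a quotient. -/
abbrev pbs (k : T' ⟶ T) {g : T ⟶ X} {L : T.Modules} (s : (pb g).obj E ⟶ L) :
    (pb (k ≫ g)).obj E ⟶ (pb k).obj L :=
  (Scheme.Modules.pullbackComp k g).inv.app E ≫ (pb k).map s

lemma Rel.comp {h : T ⟶ G} {g : T ⟶ X} {hg : h ≫ π = g} {q : (pb π).obj E ⟶ Q} {L : T.Modules}
    {s : (pb g).obj E ⟶ L} (hs : Rel hg q s) (k : T' ⟶ T) (hg' : (k ≫ h) ≫ π = k ≫ g) :
    Rel hg' q (pbs k s) := by
  obtain ⟨e, he⟩ := hs
  refine ⟨((Scheme.Modules.pullbackComp k h).app Q).symm ≪≫ (pb k).mapIso e, ?_⟩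
  rw [Iso.trans_hom, Iso.symm_hom, Iso.app_inv, Functor.mapIso_hom, ← Category.assoc,
    quotBC_comp k hg hg' q, Category.assoc, ← Functor.map_comp, he]

lemma pbs_map (k : T' ⟶ T) {g : T ⟶ X} {E' : X.Modules} (v : E' ⟶ E) {L : T.Modules}
    (s : (pb g).obj E ⟶ L) :
    pbs k ((pb g).map v ≫ s) = (pb (k ≫ g)).map v ≫ pbs k s := by
  rw [pbs, pbs, Functor.map_comp, ← Category.assoc, ← Category.assoc]
  congr 1
  exact ((Scheme.Modules.pullbackComp k g).inv.naturality v).symm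

variable (π E) in
lemma quotBC_id (q : (pb π).obj E ⟶ Q) : Rel (Category.id_comp π) q q := by
  refine ⟨(Scheme.Modules.pullbackId G).app Q, ?_⟩
  have h0 := congr($(Scheme.Modules.pseudofunctor_right_unitality π).app E)
  simp only [NatTrans.comp_app, Functor.whiskerLeft_app, Functor.rightUnitor_hom_app,
    eqToHom_app] at h0
  erw [Category.comp_id] at h0
  have hc : (Scheme.Modules.pullbackCongr (Category.id_comp π)).inv.app E =
      eqToHom (by rw [Category.id_comp]) := by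
    simp [Scheme.Modules.pullbackCongr, eqToIso.inv, eqToHom_app]
  rw [quotBC_eq, unfoldIso, hc, Iso.app_hom, Category.assoc, Category.assoc]
  erw [(Scheme.Modules.pullbackId G).hom.naturality q]
  rw [← Category.assoc ((Scheme.Modules.pullbackComp (𝟙 G) π).inv.app E)]
  erw [h0]
  rw [← Category.assoc]
  simp

/-- Uniqueness in the form of `Rel`. -/
lemma rel_unique {r : ℕ} {q : (pb π).obj E ⟶ Q} (hG : Grass.IsGrass π E r Q q) {g : T ⟶ X}
    {L : T.Modules} (hL : FlatMod.IsFinLocFreeOfRank r L) {s : (pb g).obj E ⟶ L} (hs : Epi s)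
    {h h' : T ⟶ G} {hg : h ≫ π = g} {hg' : h' ≫ π = g} (hh : Rel hg q s) (hh' : Rel hg' q s) :
    h = h' :=
  (hG.univ T g L hL s hs).unique ⟨hg, hh⟩ ⟨hg', hh'⟩

lemma exists_rel {r : ℕ} {q : (pb π).obj E ⟶ Q} (hG : Grass.IsGrass π E r Q q) {g : T ⟶ X}
    {L : T.Modules} (hL : FlatMod.IsFinLocFreeOfRank r L) {s : (pb g).obj E ⟶ L} (hs : Epi s) :
    ∃ (h : T ⟶ G) (hg : h ≫ π = g), Rel hg q s :=
  (hG.univ T g L hL s hs).exists

lemma rel_subst {h : T ⟶ G} {g g' : T ⟶ X} (eg : g = g') {hg : h ≫ π = g} {q : (pb π).obj E ⟶ Q}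
    {L : T.Modules} {s : (pb g).obj E ⟶ L} (hs : Rel hg q s) :
    Rel (hg.trans eg) q ((Scheme.Modules.pullbackCongr eg).inv.app E ≫ s) := by
  subst eg
  have hc : (Scheme.Modules.pullbackCongr (rfl : g = g)).inv.app E = 𝟙 _ := by
    simp [Scheme.Modules.pullbackCongr]
  rw [hc, Category.id_comp]
  exact hs

lemma Rel.exists_iso {h h' : T ⟶ G} (eh : h = h') {g : T ⟶ X} {hg : h ≫ π = g} {hg' : h' ≫ π = g}
    {q : (pb π).obj E ⟶ Q} {L L' : T.Modules} {s : (pb g).obj E ⟶ L} {s' : (pb g).obj E ⟶ L'}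
    (hs : Rel hg q s) (hs' : Rel hg' q s') : ∃ i : L ≅ L', s ≫ i.hom = s' := by
  subst eh
  obtain ⟨a, ha⟩ := hs
  obtain ⟨b, hb⟩ := hs'
  exact ⟨a.symm ≪≫ b, by rw [← ha, Category.assoc, Iso.trans_hom, Iso.symm_hom,
    Iso.hom_inv_id_assoc, hb]⟩

lemma congr_natural {g g' : T ⟶ X} (eg : g = g') {E' : X.Modules} (v : E ⟶ E') :
    (Scheme.Modules.pullbackCongr eg).inv.app E ≫ (pb g).map v =
      (pb g').map v ≫ (Scheme.Modules.pullbackCongr eg).inv.app E' :=
  ((Scheme.Modules.pullbackCongr eg).inv.naturality v).symm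

lemma rel_subst_map {h : T ⟶ G} {g g' : T ⟶ X} (eg : g = g') {hg : h ≫ π = g} {q : (pb π).obj E ⟶ Q}
    {E' : X.Modules} (v : E ⟶ E') {L : T.Modules} {t : (pb g).obj E' ⟶ L}
    (hs : Rel hg q ((pb g).map v ≫ t)) :
    Rel (hg.trans eg) q ((pb g').map v ≫ (Scheme.Modules.pullbackCongr eg).inv.app E' ≫ t) := by
  have h1 := rel_subst eg hs
  rwa [← Category.assoc, congr_natural, Category.assoc] at h1

lemma assoc5 {C : Type*} [Category C] {A B D F H K : C} (a : A ⟶ B) (b : B ⟶ D) (c : D ⟶ F)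
    (d : F ⟶ H) (i : H ⟶ K) : a ≫ b ≫ (c ≫ d) ≫ i = (a ≫ b ≫ c ≫ d) ≫ i := by
  simp only [Category.assoc]

lemma epi_quotBC {h : T ⟶ G} {g : T ⟶ X} (hg : h ≫ π = g) {q : (pb π).obj E ⟶ Q} [Epi q] :
    Epi (Grass.quotBC hg q) := by
  haveI := Grass.epi_pullback_map h q
  exact epi_comp _ _

end

end Groth.Agent.Lib.GrassRep.QuotBC
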