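import Groth.Agent.Lib.GrassRep.Chart
import Mathlib.AlgebraicGeometry.Pullbacks
import Mathlib.AlgebraicGeometry.PullbackCarrier
import Mathlib.AlgebraicGeometry.Gluing
import Mathlib.CategoryTheory.Category.Preorder
import Mathlib.AlgebraicGeometry.Morphisms.OpenImmersion

/-!
# The Grassmannian scheme

`grass R M k` over `Spec R`, with `grassEquiv`: `Spec A ⟶ grass` over `R` is the same as `G(k, A ⊗ M; A)`,
naturally in `A` (`grassEquiv_natural`).
-/

universe u

set_option maxHeartbeats 400000

open CategoryTheory Limits AlgebraicGeometry TensorProduct Module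

namespace Groth.Agent.Lib.GrassRep

set_option linter.style.haveILetI false

variable {R : Type u} [CommRing R] {M : Type u} [AddCommGroup M] [Module R M] {k : ℕ}
  {A B : Type u} [CommRing A] [Algebra R A] [CommRing B] [Algebra R B]

/-- `Spec` of an algebra map. -/
noncomputable abbrev Sp (f : A →ₐ[R] B) : Spec (CommRingCat.of B) ⟶ Spec (CommRingCat.of A) :=
  Spec.map (CommRingCat.ofHom f.toRingHom)

lemma Sp_comp {C : Type u} [CommRing C] [Algebra R C] (f : A →ₐ[R] B) (g : B →ₐ[R] C) :
    Sp (g.comp f) = Sp g ≫ Sp f := by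
  rw [← Spec.map_comp]
  rfl

lemma Sp_str (f : A →ₐ[R] B) :
    Sp f ≫ Spec.map (CommRingCat.ofHom (algebraMap R A)) = Spec.map (CommRingCat.ofHom (algebraMap R B)) := by
  rw [← Spec.map_comp, ← CommRingCat.ofHom_comp]
  congr 2
  exact f.comp_algebraMap

lemma exists_algHom (m : Spec (CommRingCat.of B) ⟶ Spec (CommRingCat.of A))
    (h : m ≫ Spec.map (CommRingCat.ofHom (algebraMap R A)) = Spec.map (CommRingCat.ofHom (algebraMap R B))) :
    ∃ f : A →ₐ[R] B, Sp f = m := by
  let φ := Spec.preimage m
  have hφ : CommRingCat.ofHom (algebraMap R A) ≫ φ = CommRingCat.ofHom (algebraMap R B) :=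
    Spec.map_injective (by rw [Spec.map_comp, Spec.map_preimage, h])
  exact ⟨{ φ.hom with commutes' := fun r => congrArg (fun k => k.hom r) hφ }, Spec.map_preimage m⟩

instance : Preorder (Idx M k) where
  le s t := t.val ⊆ s.val
  le_refl s := subset_refl s.val
  le_trans r s t h h' := h'.trans h

variable (R M k) in
/-- The diagram of charts. -/
noncomputable def diag : Idx M k ⥤ Scheme.{u} where
  obj s := Spec (CommRingCat.of (Sr R s))
  map {_ _} h := Sp (trans (R := R) (leOfHom h))
  map_id s := by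
    show Sp (trans (R := R) (subset_refl s.val)) = _
    rw [trans_self]
    exact Spec.map_id _
  map_comp {r s t} h h' := by
    show Sp (trans (R := R) _) = Sp (trans _) ≫ Sp (trans _)
    rw [← Sp_comp, trans_comp]

instance isOpenImmersion_diag_map {s t : Idx M k} (h : s ⟶ t) :
    IsOpenImmersion ((diag R M k).map h) := by
  obtain ⟨d, hd⟩ := isLocalization_trans (R := R) (leOfHom h)
  letI := (trans (R := R) (leOfHom h)).toAlgebra
  haveI := hd
  exact IsOpenImmersion.of_isLocalization (S := Sr R s) d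

/-- A union of index sets. -/
noncomputable def Idx.union (s t : Idx M k) : Idx M k :=
  ⟨@Union.union _ (@Finset.instUnion _ (Classical.decEq (Fin k → M))) s.val t.val,
    s.nonempty.mono (@Finset.subset_union_left _ (Classical.decEq (Fin k → M)) _ _)⟩

lemma Idx.left_le_union (s t : Idx M k) : s.val ⊆ (s.union t).val := by
  exact @Finset.subset_union_left _ (Classical.decEq (Fin k → M)) _ _

lemma Idx.right_le_union (s t : Idx M k) : t.val ⊆ (s.union t).val := by
  exact @Finset.subset_union_right _ (Classical.decEq (Fin k → M)) _ _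

lemma Idx.union_le {s t r : Idx M k} (h : s.val ⊆ r.val) (h' : t.val ⊆ r.val) :
    (s.union t).val ⊆ r.val := by
  exact @Finset.union_subset _ (Classical.decEq (Fin k → M)) _ _ _ h h'

lemma mem_union_iff (s t : Idx M k) (y : Fin k → M) : y ∈ (s.union t).val ↔ y ∈ s.val ∨ y ∈ t.val := by
  exact @Finset.mem_union _ (Classical.decEq (Fin k → M)) _ _ _

/-- Two points with the same underlying element give a point of the union. -/
noncomputable def Pts.union {s t : Idx M k} (P : Pts R s A) (P' : Pts R t A) (h : P.1 = P'.1) :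
    Pts R (s.union t) A :=
  ⟨P.1, fun y hy => ((mem_union_iff s t y).mp hy).elim (P.2 y) fun hy => h ▸ P'.2 y hy⟩

lemma clsf_congr {s : Idx M k} {P P' : Pts R s A} (h : P.1 = P'.1) : clsf P = clsf P' :=
  congrArg clsf (Subtype.ext h)

instance isLocallyDirected_diag : (diag R M k ⋙ Scheme.forget).IsLocallyDirected := by
  refine ⟨fun {s t r} fs ft xs xt h => ?_⟩
  let as := trans (R := R) (leOfHom fs)
  let at' := trans (R := R) (leOfHom ft)
  letI : Algebra (Sr R r) (Sr R s) := as.toAlgebra
  letI : Algebra (Sr R r) (Sr R t) := at'.toAlgebra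
  haveI : IsScalarTower R (Sr R r) (Sr R s) := IsScalarTower.of_algebraMap_eq fun a => (as.commutes a).symm
  haveI : IsScalarTower R (Sr R r) (Sr R t) := IsScalarTower.of_algebraMap_eq fun a => (at'.commutes a).symm
  obtain ⟨z, hz₁, hz₂⟩ := Scheme.Pullback.exists_preimage_pullback (f := Sp as) (g := Sp at') xs xt h
  let T := Sr R s ⊗[Sr R r] Sr R t
  let i : pullback (Sp as) (Sp at') ≅ Spec (CommRingCat.of T) := pullbackSpecIso (Sr R r) (Sr R s) (Sr R t)
  let fs' : Sr R s →ₐ[R] T :=
    (Algebra.TensorProduct.includeLeft (R := Sr R r) (S := Sr R r)).restrictScalars R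
  let ft' : Sr R t →ₐ[R] T :=
    (Algebra.TensorProduct.includeRight (R := Sr R r) (A := Sr R s)).restrictScalars R
  have hc : fs'.comp as = ft'.comp at' := AlgHom.ext fun a => by
    show (Algebra.TensorProduct.includeLeft (R := Sr R r) (S := Sr R r) (B := Sr R t))
      (algebraMap (Sr R r) (Sr R s) a) = Algebra.TensorProduct.includeRight (algebraMap (Sr R r) (Sr R t) a)
    rw [AlgHom.commutes, AlgHom.commutes]
  let Ps : Pts R s T := mapPts fs' (univ R s)
  let Pt : Pts R t T := mapPts ft' (univ R t)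
  have hP : Ps.1 = Pt.1 := by
    show Grassmannian.map fs' (univ R s).1 = Grassmannian.map ft' (univ R t).1
    rw [← show Grassmannian.map as (univ R r).1 = (univ R s).1 from map_clsf _,
      ← show Grassmannian.map at' (univ R r).1 = (univ R t).1 from map_clsf _,
      ← Grassmannian.map_comp, ← Grassmannian.map_comp, hc]
  let ψ := clsf (Ps.union Pt hP)
  refine ⟨s.union t, homOfLE (Idx.left_le_union s t), homOfLE (Idx.right_le_union s t),
    (Sp ψ) (i.hom z), ?_, ?_⟩
  · show (Sp ψ ≫ Sp (trans (R := R) (Idx.left_le_union s t))) (i.hom z) = xs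
    rw [← Sp_comp, ← clsf_le, show clsf ((Ps.union Pt hP).le (Idx.left_le_union s t)) = fs' from
      hom_ext (map_clsf _), ← hz₁]
    show (i.hom ≫ Sp fs') z = _
    refine congrArg (fun m => (m : _ ⟶ Spec (CommRingCat.of (Sr R s))) z) ?_
    exact pullbackSpecIso_hom_fst (Sr R r) (Sr R s) (Sr R t)
  · show (Sp ψ ≫ Sp (trans (R := R) (Idx.right_le_union s t))) (i.hom z) = xt
    rw [← Sp_comp, ← clsf_le, show clsf ((Ps.union Pt hP).le (Idx.right_le_union s t)) = ft' from
      hom_ext ((map_clsf _).trans hP), ← hz₂]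
    show (i.hom ≫ Sp ft') z = _
    refine congrArg (fun m => (m : _ ⟶ Spec (CommRingCat.of (Sr R t))) z) ?_
    exact pullbackSpecIso_hom_snd (Sr R r) (Sr R s) (Sr R t)

variable (R M k) in
/-- The Grassmannian, as a scheme. -/
noncomputable def carrier : Scheme.{u} := colimit (diag R M k)

/-- The charts. -/
noncomputable def chart (s : Idx M k) : Spec (CommRingCat.of (Sr R s)) ⟶ carrier R M k :=
  colimit.ι (diag R M k) s

instance isOpenImmersion_chart (s : Idx M k) : IsOpenImmersion (chart (R := R) s) :=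
  inferInstanceAs (IsOpenImmersion (colimit.ι (diag R M k) s))

lemma trans_chart {s t : Idx M k} (h : t.val ⊆ s.val) :
    Sp (trans (R := R) h) ≫ chart t = chart s :=
  colimit.w (diag R M k) (homOfLE (show s ≤ t from h))

variable (R M k) in
/-- The structure map. -/
noncomputable def str : carrier R M k ⟶ Spec (CommRingCat.of R) :=
  colimit.desc (diag R M k)
    { pt := Spec (CommRingCat.of R)
      ι :=
        { app := fun s => Spec.map (CommRingCat.ofHom (algebraMap R (Sr R s)))
          naturality := fun _ _ h => (Sp_str (trans (R := R) (leOfHom h))).trans (Category.comp_id _).symm } }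

lemma chart_str (s : Idx M k) :
    chart s ≫ str R M k = Spec.map (CommRingCat.ofHom (algebraMap R (Sr R s))) :=
  colimit.ι_desc _ _

variable (R M k) in
/-- The Grassmannian over `Spec R`. -/
noncomputable def grass : Over (Spec (CommRingCat.of R)) := Over.mk (str R M k)

/-! ### Points -/

lemma clsf_chart_eq {s t : Idx M k} (P : Pts R s A) (P' : Pts R t A) (h : P.1 = P'.1) :
    Sp (clsf P) ≫ chart s = Sp (clsf P') ≫ chart t := by
  let Q := P.union P' h
  rw [clsf_congr (P := P) (P' := Q.le (Idx.left_le_union s t)) rfl,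
    clsf_congr (P := P') (P' := Q.le (Idx.right_le_union s t)) h.symm, clsf_le, clsf_le, Sp_comp, Sp_comp,
    Category.assoc, Category.assoc, trans_chart, trans_chart]

lemma eq_of_clsf_chart_eq {s t : Idx M k} (P : Pts R s A) (P' : Pts R t A)
    (h : Sp (clsf P) ≫ chart s = Sp (clsf P') ≫ chart t) : P.1 = P'.1 := by
  let u := s.union t
  let hs := Idx.left_le_union s t
  let ht := Idx.right_le_union s t
  haveI : IsOpenImmersion (Sp (trans (R := R) hs)) :=
    isOpenImmersion_diag_map (homOfLE (show u ≤ s from hs))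
  have hrange : Set.range (Sp (clsf P)) ⊆ Set.range (Sp (trans (R := R) hs)) := by
    rintro _ ⟨p, rfl⟩
    have hp : colimit.ι (diag R M k) s (Sp (clsf P) p) = colimit.ι (diag R M k) t (Sp (clsf P') p) :=
      congrArg (fun m => (m : _ ⟶ carrier R M k) p) h
    obtain ⟨r, fi, fj, y, hy, -⟩ := (Scheme.IsLocallyDirected.ι_eq_ι_iff _).mp hp
    have hru : u.val ⊆ r.val := Idx.union_le (leOfHom fi) (leOfHom fj)
    refine ⟨Sp (trans (R := R) hru) y, ?_⟩
    show (Sp (trans (R := R) hru) ≫ Sp (trans hs)) y = _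
    rw [← Sp_comp, trans_comp, ← hy]
    rfl
  let l := IsOpenImmersion.lift (Sp (trans (R := R) hs)) (Sp (clsf P)) hrange
  have hl : l ≫ Sp (trans hs) = Sp (clsf P) := IsOpenImmersion.lift_fac _ _ _
  obtain ⟨ψ, hψ⟩ := exists_algHom (R := R) l (by rw [← Sp_str (trans (R := R) hs), reassoc_of% hl, Sp_str])
  let Q := mapPts ψ (univ R u)
  have h1 : clsf P = ψ.comp (trans hs) := by
    refine AlgHom.coe_ringHom_injective ?_
    have := hl
    rw [← hψ, ← Sp_comp] at this
    exact congrArg CommRingCat.Hom.hom (Spec.map_injective this.symm)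
  have h2 : clsf P' = ψ.comp (trans ht) := by
    refine AlgHom.coe_ringHom_injective ?_
    have h3 : Sp (clsf P') = Sp (ψ.comp (trans ht)) := by
      rw [← cancel_mono (chart t), ← h, Sp_comp, Category.assoc, trans_chart, h1, Sp_comp, Category.assoc,
        trans_chart]
    exact congrArg CommRingCat.Hom.hom (Spec.map_injective h3)
  rw [← map_clsf P, ← map_clsf P', h1, h2, Grassmannian.map_comp, Grassmannian.map_comp]
  exact congrArg (Grassmannian.map ψ)
    ((map_clsf ((univ R u).le hs)).trans (map_clsf ((univ R u).le ht)).symm)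

/-- `g` classifies `N`. -/
def Cls (N : Gr R M k A) (g : Spec (CommRingCat.of A) ⟶ carrier R M k) : Prop :=
  ∀ (B : Type u) [CommRing B] [Algebra R B] (f : A →ₐ[R] B) (s : Idx M k) (P : Pts R s B),
    P.1 = Grassmannian.map f N → Sp f ≫ g = Sp (clsf P) ≫ chart s

/-- A singleton index set. -/
def Idx.single (x : Fin k → M) : Idx M k := ⟨{x}, Finset.singleton_nonempty x⟩

/-- A point with a frame. -/
noncomputable def Pts.single {N : Gr R M k A} {x : Fin k → M} (h : Gen N x) :
    Pts R (Idx.single x) A :=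
  ⟨N, fun _ hy => (Finset.mem_singleton.mp hy) ▸ h⟩

theorem exists_cover (N : Gr R M k A) :
    ∃ (ι : Type u) (_ : Finite ι) (a : ι → A) (x : ι → (Fin k → M)), Ideal.span (Set.range a) = ⊤ ∧
      ∀ i, Gen (Grassmannian.map (ia R (a i)) N) (x i) := by
  choose x a ha hgen using fun p => exists_gen_away N p
  have hspan : Ideal.span (Set.range a) = ⊤ := by
    by_contra h
    obtain ⟨m, hm, hle⟩ := Ideal.exists_le_maximal _ h
    exact ha ⟨m, hm.isPrime⟩ (hle (Ideal.subset_span ⟨_, rfl⟩))
  obtain ⟨t, ht, h1⟩ := Submodule.mem_span_finite_of_mem_span ((Ideal.eq_top_iff_one _).mp hspan)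
  choose p hp using fun i : {b // b ∈ t} => ht i.2
  refine ⟨{b // b ∈ t}, inferInstance, fun i => a (p i), fun i => x (p i), ?_, fun i =>
    hgen _ _ (ia R _) (IsLocalization.Away.algebraMap_isUnit _)⟩
  rw [Ideal.eq_top_iff_one]
  refine Ideal.span_mono ?_ h1
  exact fun b hb => ⟨⟨b, hb⟩, hp _⟩

/-- The covering of `Spec A` by the localizations at `a`. -/
noncomputable abbrev cov {ι : Type u} (a : ι → A) (ha : Ideal.span (Set.range a) = ⊤) :
    (Spec (CommRingCat.of A)).OpenCover :=
  (Scheme.affineOpenCoverOfSpanRangeEqTop (R := CommRingCat.of A) a ha).openCover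

theorem hom_ext_cover {ι : Type u} (a : ι → A) (ha : Ideal.span (Set.range a) = ⊤) {Y : Scheme.{u}}
    {g g' : Spec (CommRingCat.of A) ⟶ Y} (h : ∀ i, Sp (ia R (a i)) ≫ g = Sp (ia R (a i)) ≫ g') : g = g' :=
  (cov a ha).hom_ext _ _ h

theorem Cls.ext {N : Gr R M k A} {g g' : Spec (CommRingCat.of A) ⟶ carrier R M k} (h : Cls N g)
    (h' : Cls N g') : g = g' := by
  obtain ⟨ι, _, a, x, ha, hx⟩ := exists_cover N
  exact hom_ext_cover (R := R) a ha fun i =>
    (h _ (ia R (a i)) _ (Pts.single (hx i)) rfl).trans (h' _ (ia R (a i)) _ (Pts.single (hx i)) rfl).symm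

theorem Cls.unique {N N' : Gr R M k A} {g : Spec (CommRingCat.of A) ⟶ carrier R M k} (h : Cls N g)
    (h' : Cls N' g) : N = N' := by
  choose x a ha hgen using fun p => exists_gen_away N p
  choose x' a' ha' hgen' using fun p => exists_gen_away N' p
  have hspan : Ideal.span (Set.range fun p => a p * a' p) = ⊤ := by
    by_contra hne
    obtain ⟨m, hm, hle⟩ := Ideal.exists_le_maximal _ hne
    exact (hm.isPrime.mem_or_mem (hle (Ideal.subset_span ⟨⟨m, hm.isPrime⟩, rfl⟩))).elim
      (ha ⟨m, hm.isPrime⟩) (ha' ⟨m, hm.isPrime⟩)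
  refine ext_of_cover _ hspan fun p => ?_
  have hu := IsLocalization.Away.algebraMap_isUnit (S := Localization.Away (a p * a' p)) (a p * a' p)
  rw [map_mul, IsUnit.mul_iff] at hu
  let P := Pts.single (hgen p _ (ia R (a p * a' p)) hu.1)
  let P' := Pts.single (hgen' p _ (ia R (a p * a' p)) hu.2)
  exact eq_of_clsf_chart_eq P P'
    ((h _ (ia R (a p * a' p)) _ P rfl).symm.trans (h' _ (ia R (a p * a' p)) _ P' rfl))

theorem Cls.map {N : Gr R M k A} {g : Spec (CommRingCat.of A) ⟶ carrier R M k} (h : Cls N g)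
    (φ : A →ₐ[R] B) : Cls (Grassmannian.map φ N) (Sp φ ≫ g) := fun C _ _ f s P hP => by
  rw [← Category.assoc, ← Sp_comp]
  exact h C (f.comp φ) s P (hP.trans (Grassmannian.map_comp _ _ _ _).symm)

theorem exists_cls (N : Gr R M k A) :
    ∃ g : Spec (CommRingCat.of A) ⟶ carrier R M k,
      g ≫ str R M k = Spec.map (CommRingCat.ofHom (algebraMap R A)) ∧ Cls N g := by
  obtain ⟨ι, _, a, x, ha, hx⟩ := exists_cover N
  let P := fun i => Pts.single (hx i)
  let m : ∀ i, Spec (CommRingCat.of (Localization.Away (a i))) ⟶ carrier R M k := fun i =>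
    Sp (clsf (P i)) ≫ chart _
  have hm : ∀ i j, pullback.fst ((cov a ha).f i) ((cov a ha).f j) ≫ m i =
      pullback.snd ((cov a ha).f i) ((cov a ha).f j) ≫ m j := by
    intro i j
    let T := Localization.Away (a i) ⊗[A] Localization.Away (a j)
    let e : pullback ((cov a ha).f i) ((cov a ha).f j) ≅ Spec (CommRingCat.of T) :=
      pullbackSpecIso A (Localization.Away (a i)) (Localization.Away (a j))
    let fi : Localization.Away (a i) →ₐ[R] T :=
      (Algebra.TensorProduct.includeLeft (R := A) (S := A)).restrictScalars R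
    let fj : Localization.Away (a j) →ₐ[R] T :=
      (Algebra.TensorProduct.includeRight (R := A) (A := Localization.Away (a i))).restrictScalars R
    have h1 : e.inv ≫ pullback.fst ((cov a ha).f i) ((cov a ha).f j) = Sp fi :=
      pullbackSpecIso_inv_fst A (Localization.Away (a i)) (Localization.Away (a j))
    have h2 : e.inv ≫ pullback.snd ((cov a ha).f i) ((cov a ha).f j) = Sp fj :=
      pullbackSpecIso_inv_snd A (Localization.Away (a i)) (Localization.Away (a j))
    refine (cancel_epi e.inv).mp ?_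
    refine Eq.trans ((Category.assoc _ _ _).symm.trans (congrArg (· ≫ m i) h1))
      (Eq.trans ?_ ((Category.assoc _ _ _).symm.trans (congrArg (· ≫ m j) h2)).symm)
    show Sp fi ≫ Sp (clsf (P i)) ≫ chart _ = Sp fj ≫ Sp (clsf (P j)) ≫ chart _
    rw [← Category.assoc, ← Sp_comp, ← clsf_map fi (P i), ← Category.assoc, ← Sp_comp, ← clsf_map fj (P j)]
    refine clsf_chart_eq _ _ ?_
    show Grassmannian.map fi (Grassmannian.map _ N) = Grassmannian.map fj (Grassmannian.map _ N)
    rw [← Grassmannian.map_comp, ← Grassmannian.map_comp]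
    congr 1
    refine AlgHom.ext fun c => ?_
    show (Algebra.TensorProduct.includeLeft (R := A) (S := A) (B := Localization.Away (a j)))
      (algebraMap A (Localization.Away (a i)) c) =
        Algebra.TensorProduct.includeRight (algebraMap A (Localization.Away (a j)) c)
    rw [AlgHom.commutes, AlgHom.commutes]
  let g := (cov a ha).glueMorphisms m hm
  have hg : ∀ i, Sp (ia R (a i)) ≫ g = Sp (clsf (P i)) ≫ chart _ :=
    fun i => (cov a ha).ι_glueMorphisms m hm i
  refine ⟨g, hom_ext_cover (R := R) a ha fun i => ?_, fun B _ _ f s Q hQ => ?_⟩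
  · rw [← Category.assoc, hg, Category.assoc, chart_str, Sp_str, Sp_str]
  · have hfa : Ideal.span (Set.range fun i => f (a i)) = ⊤ := by
      have := congrArg (Ideal.map f.toRingHom) ha
      rw [Ideal.map_span, Ideal.map_top, ← Set.range_comp] at this
      exact this
    refine hom_ext_cover (R := R) _ hfa fun i => ?_
    let fi : Localization.Away (a i) →ₐ[R] Localization.Away (f (a i)) :=
      IsLocalization.liftAlgHom (M := Submonoid.powers (a i)) (f := (ia R (f (a i))).comp f) (fun z => by
        obtain ⟨_, n, rfl⟩ := z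
        rw [map_pow]
        exact (IsLocalization.Away.algebraMap_isUnit (f (a i))).pow n)
    have hfi : (ia R (f (a i))).comp f = fi.comp (ia R (a i)) := AlgHom.ext fun z => by
      show _ = fi (algebraMap _ _ z)
      rw [IsLocalization.liftAlgHom_apply]
      exact (IsLocalization.lift_eq _ _).symm
    rw [← Category.assoc, ← Sp_comp, hfi, Sp_comp, Category.assoc, hg, ← Category.assoc, ← Sp_comp,
      ← Category.assoc, ← Sp_comp, ← clsf_map, ← clsf_map]
    refine clsf_chart_eq _ _ ?_
    show Grassmannian.map fi (Grassmannian.map _ N) = Grassmannian.map (ia R (f (a i))) Q.1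
    rw [hQ, ← Grassmannian.map_comp, ← Grassmannian.map_comp, hfi]

theorem exists_of_hom (g : Spec (CommRingCat.of A) ⟶ carrier R M k)
    (hg : g ≫ str R M k = Spec.map (CommRingCat.ofHom (algebraMap R A))) :
    ∃ N : Gr R M k A, Cls N g := by
  have hloc : ∀ p : PrimeSpectrum A, ∃ (a : A) (s : Idx M k), a ∉ p.asIdeal ∧
      Set.range (Sp (ia R a) ≫ g) ⊆ Set.range (chart (R := R) s) := by
    intro p
    obtain ⟨s, y, hy⟩ := Scheme.IsLocallyDirected.ι_jointly_surjective (diag R M k) (g p)
    let U := g ⁻¹ᵁ (chart (R := R) s).opensRange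
    have hpU : p ∈ U := ⟨y, hy⟩
    obtain ⟨_, ⟨a, rfl⟩, hpa, haU⟩ :=
      PrimeSpectrum.isTopologicalBasis_basic_opens.exists_subset_of_mem_open hpU U.2
    refine ⟨a, s, hpa, ?_⟩
    rintro _ ⟨q, rfl⟩
    refine haU ?_
    show a ∉ (PrimeSpectrum.comap (algebraMap A (Localization.Away a)) q).asIdeal
    exact fun hq => q.2.ne_top (q.asIdeal.eq_top_of_isUnit_mem hq (IsLocalization.Away.algebraMap_isUnit a))
  choose a s ha hrange using hloc
  have hspan : Ideal.span (Set.range a) = ⊤ := by
    by_contra h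
    obtain ⟨m, hm, hle⟩ := Ideal.exists_le_maximal _ h
    exact ha ⟨m, hm.isPrime⟩ (hle (Ideal.subset_span ⟨_, rfl⟩))
  obtain ⟨t, ht, h1⟩ := Submodule.mem_span_finite_of_mem_span ((Ideal.eq_top_iff_one _).mp hspan)
  choose p hp using fun i : {b // b ∈ t} => ht i.2
  let b := fun i => a (p i)
  have hb : Ideal.span (Set.range b) = ⊤ := by
    rw [Ideal.eq_top_iff_one]
    exact Ideal.span_mono (fun c hc => show c ∈ Set.range b from ⟨⟨c, hc⟩, hp _⟩) h1
  have hψ : ∀ i, ∃ ψ : Sr R (s (p i)) →ₐ[R] Localization.Away (b i),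
      Sp ψ ≫ chart _ = Sp (ia R (b i)) ≫ g := fun i => by
    let l := IsOpenImmersion.lift (chart (R := R) (s (p i))) (Sp (ia R (b i)) ≫ g) (hrange (p i))
    have hl : l ≫ chart _ = Sp (ia R (b i)) ≫ g := IsOpenImmersion.lift_fac _ _ _
    obtain ⟨ψ, hψ⟩ := exists_algHom (R := R) l (by
      rw [← chart_str, reassoc_of% hl, hg, Sp_str])
    exact ⟨ψ, hψ ▸ hl⟩
  choose ψ hψ using hψ
  let P := fun i => mapPts (ψ i) (univ R (s (p i)))
  have hP : ∀ i, clsf (P i) = ψ i := fun i => hom_ext (map_clsf _)
  obtain ⟨N, hN⟩ := exists_glue b hb (fun i => (P i).1) fun i j C _ _ f f' hff' => by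
    refine eq_of_clsf_chart_eq (mapPts f (P i)) (mapPts f' (P j)) ?_
    rw [clsf_map f (P i), clsf_map f' (P j), hP, hP, Sp_comp, Sp_comp, Category.assoc, Category.assoc, hψ, hψ,
      ← Category.assoc, ← Category.assoc, ← Sp_comp, ← Sp_comp, hff']
  obtain ⟨g', -, hg'⟩ := exists_cls N
  have : g = g' := hom_ext_cover (R := R) b hb fun i => by
    rw [hg' _ (ia R (b i)) _ (P i) (hN i).symm, hP, hψ]
  exact ⟨N, this ▸ hg'⟩

/-- The bijection on points. -/
noncomputable def grassEquiv (A : Type u) [CommRing A] [Algebra R A] :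
    (Over.mk (Spec.map (CommRingCat.ofHom (algebraMap R A))) ⟶ grass R M k) ≃ Gr R M k A where
  toFun g := (exists_of_hom g.left (Over.w g)).choose
  invFun N := Over.homMk (exists_cls N).choose (exists_cls N).choose_spec.1
  left_inv g := Over.OverMorphism.ext ((exists_cls _).choose_spec.2.ext (exists_of_hom g.left (Over.w g)).choose_spec)
  right_inv N := (exists_of_hom (exists_cls N).choose (exists_cls N).choose_spec.1).choose_spec.unique
    (exists_cls N).choose_spec.2

lemma cls_grassEquiv (g : Over.mk (Spec.map (CommRingCat.ofHom (algebraMap R A))) ⟶ grass R M k) :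
    Cls (grassEquiv A g) g.left :=
  (exists_of_hom g.left (Over.w g)).choose_spec

/-- Naturality of the bijection. -/
theorem grassEquiv_natural (φ : A →ₐ[R] B)
    (g : Over.mk (Spec.map (CommRingCat.ofHom (algebraMap R A))) ⟶ grass R M k)
    (g' : Over.mk (Spec.map (CommRingCat.ofHom (algebraMap R B))) ⟶ grass R M k)
    (h : g'.left = Sp φ ≫ g.left) :
    grassEquiv B g' = Grassmannian.map φ (grassEquiv A g) :=
  (cls_grassEquiv g').unique (h ▸ (cls_grassEquiv g).map φ)

end Groth.Agent.Lib.GrassRep
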